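import Cfsg.Agent.H863.SKer
import Cfsg.Agent.BMx.Bridge
import Cfsg.Agent.H772.G2.Asm5_mg_m3
import Cfsg.Agent.H270.GT.Five_m3
import Cfsg.Agent.ClassicalGeometry.SympBasic
import Cfsg.Prelude.Def_GeometricClasses
import Cfsg.Agent.H650.Q5.HomU_m3
import Cfsg.Agent.H792.Sp.BFive
import Mathlib
import Cfsg.Agent.S5787
import Cfsg.Agent.FastGrp
import Cfsg.Agent.Prune
set_option linter.all false

section
prune_inst 0x7ffeb9f9afb8bfdfffff7e77aedcdffc3d905fffefdff94bffe861df2fdf230e0fc5fbad0de010fe1ed6601410b87843fd7ecfffe06bdc7ffffddff45ffbee4ff5f7bd08519688340fbc2fff83f0778e7f3fffffffffffffffffffffffffffbeffbfffffffff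

-- part: H913/Q5/BWords
section
set_option linter.all false

/-!
# Words in the concrete Baby Monster: `5^{1+4}` and an element of order 3 normalizing it

Found with the kit of helper840 (`tools/h840_bm`): `wa, wb` generate a Sylow 5-subgroup of the centralizer of the letter `z`,
`wz` its centre, `wq` is inverted by `z` and commutes with `wa, wb`, `ww` of order 3 normalizes `<wa, wb>`.
-/

set_option autoImplicit false
set_option Elab.async false

namespace Cfsg.Agent.H913.Q5.BW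

open Cfsg.Agent.Monster.VecEngine Cfsg.Agent.BabyM.Conc Cfsg.Agent.BabyM.WordsInst Cfsg.Agent.BM.StageW
open Cfsg.Agent.BabyM.Inst Cfsg.Agent.BabyM Cfsg.Agent.H863.SKer

/-- the word `wa` -/
def wa : List Ltr :=
  [.X0, .X4, .X5, .X10, .Z1, .Z2, .Z3, .Z4, .Z8, .Z10, .xii, .p5, .hi, .p4, .hi, .p, .hi, .p3, .y9, .xii, .y9,
   .p3, .y9, .xii, .y9, .p3, .y9, .xi, .y9, .p10, .h, .p7, .y7, .y5, .p8]

/-- the word `wb` -/
def wb : List Ltr :=
  [.X10, .Z5, .Z6, .Z8, .Z10, .z, .p5, .y1, .y7, .p7, .y9, .h, .xi, .hi, .y7, .p4, .y5, .h, .p7, .hi, .p2, .y8,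
   .xi, .y9, .p9, .h, .p6]

/-- the word `wz` -/
def wz : List Ltr :=
  [.X0, .X1, .X5, .X6, .X7, .X8, .Z1, .Z4, .Z8, .Z9, .z, .p2, .xii, .p3, .hi, .p4, .hi, .p7, .h, .p8, .xii, .p,
   .h, .p7, .h, .p3, .hi, .p9, .hi, .p10, .y8, .xi, .p2, .xii, .y5, .p6]

/-- the word `ww` -/
def ww : List Ltr :=
  [.X1, .X2, .X3, .X4, .X5, .X6, .X7, .Z0, .Z2, .Z3, .Z4, .Z7, .Z8, .Z9, .p10, .hi, .p7, .hi, .p4, .hi, .xi, .p4,
   .y4, .p, .xii, .hi, .p5, .h, .p3, .hi, .p10, .y4, .xi, .hi, .xi, .p9, .y6, .xii]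

/-- the conjugating word of `wq` -/
def wg : List Ltr :=
  [.z, .tau, .hi, .xii, .p7, .xi, .taui, .p6, .X10, .xii, .Z0, .Z3, .Z7, .Z8, .Z9, .h, .p2, .h, .p8, .hi, .p2,
   .hi, .p, .hi, .p8, .h, .p5, .xi, .X10, .p5, .tau, .X0, .X1, .X3, .X4, .X9, .Z2, .Z3, .Z4, .Z5, .taui, .p6,
   .X10, .xii, .Z0, .Z3, .Z7, .Z8, .Z9, .h, .p2, .h, .p8, .hi, .p2, .hi, .p, .hi, .p8, .h, .p5, .xi, .X10, .p5,
   .tau, .X0, .X1, .X3, .X4, .X9, .Z2, .Z3, .Z4, .Z5, .taui, .p6, .X10, .xii, .Z0, .Z3, .Z7, .Z8, .Z9, .h, .p2,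
   .h, .p8, .hi, .p2, .hi, .p, .hi, .p8, .h, .p5]

/-- the inverse of `wg` -/
def wh : List Ltr :=
  [.p6, .hi, .p3, .h, .p10, .h, .p9, .h, .p3, .hi, .p9, .hi, .Z9, .Z8, .Z7, .Z3, .Z0, .xi, .X10, .p5, .tau,
   .X0, .X1, .X3, .X4, .X9, .Z2, .Z3, .Z4, .Z5, .taui, .p6, .X10, .xii, .p6, .hi, .p3, .h, .p10, .h, .p9, .h,
   .p3, .hi, .p9, .hi, .Z9, .Z8, .Z7, .Z3, .Z0, .xi, .X10, .p5, .tau, .X0, .X1, .X3, .X4, .X9, .Z2, .Z3, .Z4,
   .Z5, .taui, .p6, .X10, .xii, .p6, .hi, .p3, .h, .p10, .h, .p9, .h, .p3, .hi, .p9, .hi, .Z9, .Z8, .Z7, .Z3,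
   .Z0, .xi, .X10, .p5, .tau, .xii, .p4, .xi, .h, .taui, .z]

/-- a word of order 10 -/
def we : List Ltr :=
  [.Z0, .Z9, .p3, .hi, .p3, .h, .p8, .hi, .p2, .h, .p6, .hi, .p4, .hi, .p3, .hi]

/-- the word `wq` -/
def wq : List Ltr := wg ++ (we ++ we) ++ wh

/-- the inverse of `ww` -/
def wi : List Ltr :=
  [.xi, .y6, .p2, .xii, .h, .xii, .y4, .p, .h, .p8, .hi, .p6, .h, .xi, .p10, .y4, .p7, .xii, .h, .p7, .h, .p4, .h,
   .p, .Z9, .Z8, .Z7, .Z4, .Z3, .Z2, .Z0, .X7, .X6, .X5, .X4, .X3, .X2, .X1]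

theorem k_a5 : chk (wa ++ wa ++ wa ++ wa ++ wa) [] = true := BMx.Bridge.chk_of_eqF (by decide +kernel)
theorem k_e5 : chk ((we ++ we) ++ (we ++ we) ++ (we ++ we) ++ (we ++ we) ++ (we ++ we)) [] = true := BMx.Bridge.chk_of_eqF (by decide +kernel)
theorem k_gh : chk (wg ++ wh) [] = true := BMx.Bridge.chk_of_eqF (by decide +kernel)
theorem k_bz : chk (wz ++ wb) (wb ++ wz) = true := BMx.Bridge.chk_of_eqF (by decide +kernel)
theorem k_ab : chk (wa ++ wb) (wb ++ wa ++ wz) = true := BMx.Bridge.chk_of_eqF (by decide +kernel)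
theorem k_qa : chk (wa ++ wq) (wq ++ wa) = true := BMx.Bridge.chk_of_eqF (by decide +kernel)
theorem k_qb : chk (wb ++ wq) (wq ++ wb) = true := BMx.Bridge.chk_of_eqF (by decide +kernel)
theorem k_wi : chk (wi ++ ww) [] = true := BMx.Bridge.chk_of_eqF (by decide +kernel)
theorem k_w3 : chk (ww ++ ww ++ ww) [] = true := BMx.Bridge.chk_of_eqF (by decide +kernel)
theorem k_wa : chk (wa ++ (wi ++ wa ++ ww)) (wb ++ wb) = true := BMx.Bridge.chk_of_eqF (by decide +kernel)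
theorem k_wb : chk (wi ++ wb ++ ww ++ wz) (wa ++ wa) = true := BMx.Bridge.chk_of_eqF (by decide +kernel)
theorem k_wz : chk (wz ++ ww) (ww ++ wz) = true := BMx.Bridge.chk_of_eqF (by decide +kernel)
theorem k_wr : chk ((ww ++ wq) ++ (ww ++ wq) ++ (ww ++ wq)) (wz ++ wz) = true := BMx.Bridge.chk_of_eqF (by decide +kernel)
theorem k_tq : chk (wq ++ [.z] ++ wq) [.z] = true := BMx.Bridge.chk_of_eqF (by decide +kernel)
theorem k_tw : chk (ww ++ [.z]) ([.z] ++ ww) = true := BMx.Bridge.chk_of_eqF (by decide +kernel)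
theorem k_tz : chk (wz ++ [.z]) ([.z] ++ wz) = true := BMx.Bridge.chk_of_eqF (by decide +kernel)
theorem k_ne : dl (wz.map Ltr.prog) vB (fun y => rd y 14 1 0 2304) = true := by decide +kernel

end Cfsg.Agent.H913.Q5.BW
end

-- part: H913/Q5/BFin
section
prune_inst 0x4602404000200000018851232003c06da000002006b000159a20d0204c61b0220052f214c201c129822ae5420310028130001304210000002000800011900a0802252061340a10425000780b087180c00000000000000000000000000041000000000000
set_option linter.all false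
open scoped Cfsg.Agent.FastGrp

/-!
# The group `5^{1+4}` and the element of order 3 in the Baby Monster
-/

set_option autoImplicit false

namespace Cfsg.Agent.H913.Q5.BW

open Cfsg.Agent.Monster.VecEngine Cfsg.Agent.BabyM.Conc Cfsg.Agent.BabyM.WordsInst Cfsg.Agent.BM.StageW
open Cfsg.Agent.BabyM.Inst Cfsg.Agent.BabyM Cfsg.Agent.H863.SKer Cfsg.Agent.H863.BVec Cfsg.Agent.H863.BRed
open Cfsg.Agent.Monster.VecSpace

theorem eqc {v w : List Ltr} (h : chk v w = true) : Wg v = Wg w :=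
  eq_of_chk Instance.all Instance.ok h

theorem z_ne : Wg wz ≠ 1 := by
  intro h
  obtain ⟨z, hz, hk⟩ := dl_W k_ne
  have h1 : W wz = 1 := congrArg Subtype.val h
  rw [h1] at hz
  have h2 := up_inj (show up ℚ (zv vB) = up ℚ (zv vB - zv z) from hz)
  have h3 : zv z = 0 := by
    have := congrArg (fun x => zv vB - x) h2
    simpa using this.symm
  have h4 := rd_spec hk
  have h5 : zv z ⟨14, by decide +kernel⟩ = 0 := by rw [h3]; rfl
  have h6 : val z 14 = 0 := h5
  rw [h6] at h4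
  norm_num at h4

/-- the element `q ^ w` -/
noncomputable def gr : M.G := Wg (wi ++ wq ++ ww)

theorem w_inv : Wg wi = (Wg ww)⁻¹ := by
  have h := eqc k_wi
  rw [Wg_append, Wg_nil] at h
  exact eq_inv_of_mul_eq_one_right h

theorem conj_w (x : List Ltr) : Wg (wi ++ x ++ ww) = Wg ww * Wg x * (Wg ww)⁻¹ := by
  rw [Wg_append, Wg_append, w_inv, mul_assoc]

theorem gr_eq : gr = Wg ww * Wg wq * (Wg ww)⁻¹ := conj_w _

theorem five {v : List Ltr} (h : chk (v ++ v ++ v ++ v ++ v) [] = true) : Wg v ^ 5 = 1 := by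
  have := eqc h
  rw [Wg_append, Wg_append, Wg_append, Wg_append, Wg_nil] at this
  rw [← this]
  simp only [pow_succ, pow_zero, one_mul, mul_assoc]

theorem w_three : Wg ww ^ 3 = 1 := by
  have := eqc k_w3
  rw [Wg_append, Wg_append, Wg_nil] at this
  rw [← this]
  simp only [pow_succ, pow_zero, one_mul, mul_assoc]

/-- The relations which follow from the checked ones. -/
private theorem derive {G : Type*} [Group G] {A B Z w q t : G} (a5 : A ^ 5 = 1) (bz : B * Z = Z * B)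
    (ab : B * A = Z * (A * B)) (qa : q * A = A * q) (qb : q * B = B * q) (w3 : w ^ 3 = 1)
    (wa : w * A * w⁻¹ * A = B * B) (wb : Z * (w * B * w⁻¹) = A * A) (wz : w * Z = Z * w)
    (wr : q * w * (q * w * (q * w)) = Z * Z) (tq : q * (t * q) = t) (tw : t * w = w * t) (tz : t * Z = Z * t) :
    Z ^ 5 = 1 ∧ B ^ 5 = 1 ∧ Commute A Z ∧ Commute q Z ∧ Commute (w * q * w⁻¹) Z ∧ Commute A (w * q * w⁻¹) ∧
      Commute B (w * q * w⁻¹) ∧ w * q * w⁻¹ * q = Z * (q * (w * q * w⁻¹)) ∧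
      w * A * w⁻¹ = B ^ 2 * A ^ 4 ∧ w * B * w⁻¹ = Z ^ 4 * A ^ 2 ∧ w * Z * w⁻¹ = Z ∧
      w * (w * q * w⁻¹) * w⁻¹ = Z ^ 2 * (w * q * w⁻¹)⁻¹ * q⁻¹ := by
  have six : ∀ {x : G}, x ^ 5 = 1 → (x * x) ^ 3 = x := fun {x} h => by
    rw [← pow_two, ← pow_mul, show 2 * 3 = 5 + 1 from rfl, pow_succ, h, one_mul]
  have cj : ∀ {x y : G}, Commute x y → Commute (w * x * w⁻¹) (w * y * w⁻¹) := fun {x y} h =>
    h.map (MulAut.conj w)
  have hz : w * Z * w⁻¹ = Z := by rw [wz, mul_inv_cancel_right]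
  have cBZ : Commute B Z := bz
  have cAZ : Commute A Z := by
    have h1 : Commute (w * B * w⁻¹) Z := by have := cj cBZ; rwa [hz] at this
    have h2 : Commute (A * A) Z := by rw [← wb]; exact (Commute.refl Z).mul_left h1
    rw [← six a5]; exact h2.pow_left 3
  have z5 : Z ^ 5 = 1 := by
    have h1 : B * A * B⁻¹ = Z * A := by rw [ab, mul_assoc, mul_inv_cancel_right]
    have h2 : (Z * A) ^ 5 = 1 := by rw [← h1, conj_pow, a5, mul_one, mul_inv_cancel]
    rwa [cAZ.symm.mul_pow, a5, mul_one] at h2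
  have z4 : Z ^ 4 = Z⁻¹ := eq_inv_of_mul_eq_one_left (by rw [← pow_succ, z5])
  have a4 : A ^ 4 = A⁻¹ := eq_inv_of_mul_eq_one_left (by rw [← pow_succ, a5])
  have hb : w * B * w⁻¹ = Z ^ 4 * A ^ 2 := by rw [z4, pow_two, ← wb, inv_mul_cancel_left]
  have ha : w * A * w⁻¹ = B ^ 2 * A ^ 4 := by rw [a4, pow_two, ← wa, mul_inv_cancel_right]
  have b5 : B ^ 5 = 1 := by
    have h1 : (w * B * w⁻¹) ^ 5 = 1 := by
      rw [hb, ((cAZ.symm.pow_left 4).pow_right 2).mul_pow, ← pow_mul, ← pow_mul, mul_comm 4 5, mul_comm 2 5,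
        pow_mul, pow_mul, z5, a5, one_pow, one_pow, mul_one]
    rwa [conj_pow, conj_eq_one_iff] at h1
  have cqA : Commute q A := qa
  have cqB : Commute q B := qb
  have cqZ : Commute q Z := by
    have h1 : Z = B * A * (A * B)⁻¹ := by rw [ab, mul_inv_cancel_right]
    rw [h1]
    exact (cqB.mul_right cqA).mul_right (cqA.mul_right cqB).inv_right
  have crZ : Commute (w * q * w⁻¹) Z := by have := cj cqZ; rwa [hz] at this
  have crA : Commute (w * q * w⁻¹) A := by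
    have h1 : Commute (w * q * w⁻¹) (A * A) := by rw [← wb]; exact crZ.mul_right (cj cqB)
    rw [← six a5]; exact h1.pow_right 3
  have crB : Commute (w * q * w⁻¹) B := by
    have h1 : Commute (w * q * w⁻¹) (B * B) := by rw [← wa]; exact (cj cqA).mul_right crA
    rw [← six b5]; exact h1.pow_right 3
  have w2 : w * w = w⁻¹ := eq_inv_of_mul_eq_one_left (by rw [← w3, pow_three'])
  have w2' : w⁻¹ * w⁻¹ = w := by rw [← mul_inv_rev, w2, inv_inv]
  have cwZ : Commute w Z := wz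
  -- `s q r = Z ^ 2`
  have h1 : w * (w * q * w⁻¹) * w⁻¹ * (q * (w * q * w⁻¹)) = Z * Z := by
    calc w * (w * q * w⁻¹) * w⁻¹ * (q * (w * q * w⁻¹))
        = (w * w) * q * (w⁻¹ * w⁻¹) * (q * (w * q * w⁻¹)) := by simp only [mul_assoc]
      _ = w⁻¹ * (q * w * (q * w * (q * w))) * (w⁻¹ * w⁻¹) := by
          rw [w2, w2']
          have : w * w = w⁻¹ := w2
          calc w⁻¹ * q * w * (q * (w * q * w⁻¹)) = w⁻¹ * q * w * (q * (w * q * (w * w))) := by rw [w2]
            _ = _ := by simp only [mul_assoc]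
      _ = Z * Z := by
          rw [wr, w2', (cwZ.mul_right cwZ).inv_left.eq, inv_mul_cancel_right]
  -- conjugation by `t`
  have tq' : t * q * t⁻¹ = q⁻¹ := by
    rw [eq_inv_iff_mul_eq_one, ← mul_left_cancel_iff (a := q), ← mul_assoc, ← mul_assoc, tq, mul_inv_cancel, one_mul,
      mul_one]
  have tw' : t * w * t⁻¹ = w := by rw [tw, mul_inv_cancel_right]
  have tz' : t * Z * t⁻¹ = Z := by rw [tz, mul_inv_cancel_right]
  have h2 : q⁻¹ * w * (q⁻¹ * w * (q⁻¹ * w)) = Z * Z := by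
    have := congrArg (MulAut.conj t) wr
    simp only [map_mul, MulAut.conj_apply, tq', tw', tz'] at this
    exact this
  have h3 : w * (w * q * w⁻¹) * w⁻¹ * (w * q * w⁻¹ * q) = (Z * Z)⁻¹ := by
    rw [← h2]
    calc w * (w * q * w⁻¹) * w⁻¹ * (w * q * w⁻¹ * q) = (w * w) * q * w⁻¹ * (q * w⁻¹ * q) := by group
      _ = _ := by rw [w2]; group
  have hr : w * (w * q * w⁻¹) * w⁻¹ = Z ^ 2 * (w * q * w⁻¹)⁻¹ * q⁻¹ := by
    rw [pow_two, ← h1]
    group
  refine ⟨z5, b5, cAZ, cqZ, crZ, crA.symm, crB.symm, ?_, ha, hb, hz, hr⟩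
  have h4 : (Z * Z)⁻¹ = Z * (Z * Z) := by
    rw [inv_eq_iff_mul_eq_one, ← z5]
    simp only [pow_succ, pow_zero, one_mul, mul_assoc]
  have csZ : Commute (w * (w * q * w⁻¹) * w⁻¹) Z := by have := cj crZ; rwa [hz] at this
  apply mul_left_cancel (a := w * (w * q * w⁻¹) * w⁻¹)
  rw [h3, h4, ← mul_assoc (w * (w * q * w⁻¹) * w⁻¹) Z, csZ.eq, mul_assoc Z, h1]

private theorem der : Wg wz ^ 5 = 1 ∧ Wg wb ^ 5 = 1 ∧ Commute (Wg wa) (Wg wz) ∧ Commute (Wg wq) (Wg wz) ∧
    Commute gr (Wg wz) ∧ Commute (Wg wa) gr ∧ Commute (Wg wb) gr ∧ gr * Wg wq = Wg wz * (Wg wq * gr) ∧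
    Wg ww * Wg wa * (Wg ww)⁻¹ = Wg wb ^ 2 * Wg wa ^ 4 ∧ Wg ww * Wg wb * (Wg ww)⁻¹ = Wg wz ^ 4 * Wg wa ^ 2 ∧
    Wg ww * Wg wz * (Wg ww)⁻¹ = Wg wz ∧ Wg ww * gr * (Wg ww)⁻¹ = Wg wz ^ 2 * gr⁻¹ * (Wg wq)⁻¹ := by
  rw [gr_eq]
  refine derive (t := Wg [.z]) (five k_a5) ?_ ?_ ?_ ?_ w_three ?_ ?_ ?_ ?_ ?_ ?_ ?_
  · have := eqc k_bz; rwa [Wg_append, Wg_append] at this
  · have := eqc k_ab; rwa [Wg_append, Wg_append, Wg_append] at this
  · have := eqc k_qa; rwa [Wg_append, Wg_append] at this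
  · have := eqc k_qb; rwa [Wg_append, Wg_append] at this
  · have := eqc k_wa; rwa [Wg_append, conj_w, Wg_append] at this
  · have := eqc k_wb; rwa [Wg_append, conj_w, Wg_append] at this
  · have := eqc k_wz; rwa [Wg_append, Wg_append] at this
  · have := eqc k_wr; rwa [Wg_append, Wg_append (ww ++ wq), Wg_append ww, Wg_append wz] at this
  · have := eqc k_tq; rwa [Wg_append, Wg_append] at this
  · have := eqc k_tw; rwa [Wg_append, Wg_append] at this
  · have := eqc k_tz; rwa [Wg_append, Wg_append] at this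

private theorem q_five : Wg wq ^ 5 = 1 := by
  have h1 : Wg wh = (Wg wg)⁻¹ := by
    have h := eqc k_gh
    rw [Wg_append, Wg_nil] at h
    exact eq_inv_of_mul_eq_one_left h
  have h2 : Wg wq = (Wg wg)⁻¹ * Wg (we ++ we) * (Wg wg)⁻¹⁻¹ := by
    rw [inv_inv, mul_assoc, ← h1, ← Wg_append, ← Wg_append]
    rfl
  rw [h2, conj_pow, five k_e5, mul_one, mul_inv_cancel]

theorem zr : gr * Wg wz = Wg wz * gr := der.2.2.2.2.1

/-- the data -/
theorem ext : Ext5 (Wg wz) (Wg wb) (Wg wa) gr (Wg wq) 1 1 where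
  v_ne := z_ne
  v5 := der.1
  a5 := der.2.1
  b5 := five k_a5
  c5 := by rw [gr_eq, conj_pow, q_five, mul_one, mul_inv_cancel]
  d5 := q_five
  av := by have := eqc k_bz; rwa [Wg_append, Wg_append] at this
  bv := der.2.2.1
  cv := zr
  dv := der.2.2.2.1
  k5 := by norm_num
  l5 := by norm_num
  ab := by
    have := eqc k_ab
    rw [Wg_append, Wg_append, Wg_append] at this
    rw [zpow_one, this, mul_assoc]
  cd := by
    rw [zpow_one, mul_assoc]
    exact der.2.2.2.2.2.2.2.1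
  ac := der.2.2.2.2.2.2.1
  ad := by have := eqc k_qb; rw [Wg_append, Wg_append] at this; exact this.symm
  bc := der.2.2.2.2.2.1
  bd := by have := eqc k_qa; rw [Wg_append, Wg_append] at this; exact this.symm

theorem w_a : Wg ww * Wg wa * (Wg ww)⁻¹ = Wg wb ^ 2 * Wg wa ^ 4 := der.2.2.2.2.2.2.2.2.1

theorem w_b : Wg ww * Wg wb * (Wg ww)⁻¹ = Wg wz ^ 4 * Wg wa ^ 2 := der.2.2.2.2.2.2.2.2.2.1

theorem w_z : Wg ww * Wg wz * (Wg ww)⁻¹ = Wg wz := der.2.2.2.2.2.2.2.2.2.2.1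

theorem w_r : Wg ww * gr * (Wg ww)⁻¹ = Wg wz ^ 2 * gr⁻¹ * (Wg wq)⁻¹ := der.2.2.2.2.2.2.2.2.2.2.2

theorem w_ne : Wg ww * Wg wb ≠ Wg wb * Wg ww := by
  intro h
  have h1 : Wg ww * Wg wb * (Wg ww)⁻¹ = Wg wb := by rw [h, mul_inv_cancel_right]
  rw [w_b] at h1
  have h2 : Commute (Wg wb) (Wg wa) := by
    rw [← h1]
    exact ((ext.bv.symm).pow_left 4).mul_left ((Commute.refl _).pow_left 2)
  have h3 := ext.ab
  rw [h2.eq, zpow_one, mul_assoc] at h3
  exact z_ne (mul_right_cancel (h3.symm.trans (one_mul _).symm))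

theorem main : ∃ (v a b c d w : M.G) (κ l : ℤ) (E : Ext5 v a b c d κ l), w ^ 3 = 1 ∧
    w * a * w⁻¹ ∈ E.grp ∧ w * b * w⁻¹ ∈ E.grp ∧ w * c * w⁻¹ ∈ E.grp ∧ w * d * w⁻¹ ∈ E.grp ∧
    w * v * w⁻¹ ∈ E.grp ∧ w * a ≠ a * w := by
  refine ⟨_, _, _, _, _, Wg ww, _, _, ext, w_three, ?_, ?_, ?_, ?_, ?_, w_ne⟩
  · rw [w_b]
    exact mul_mem (pow_mem ext.v_mem _) (pow_mem ext.b_mem _)
  · rw [w_a]
    exact mul_mem (pow_mem ext.a_mem _) (pow_mem ext.b_mem _)
  · rw [w_r]
    exact mul_mem (mul_mem (pow_mem ext.v_mem _) (inv_mem ext.c_mem)) (inv_mem ext.d_mem)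
  · rw [← gr_eq]
    exact ext.c_mem
  · rw [w_z]
    exact ext.v_mem

end Cfsg.Agent.H913.Q5.BW

namespace Cfsg.Agent.H913.Q5.Ext5

variable {G H : Type*} [Group G] [Group H] {v a b c d : G} {κ l : ℤ}

theorem map (E : Ext5 v a b c d κ l) (f : G →* H) (hf : Function.Injective f) :
    Ext5 (f v) (f a) (f b) (f c) (f d) κ l where
  v_ne h := E.v_ne (hf (by rw [h, map_one]))
  v5 := by rw [← map_pow, E.v5, map_one]
  a5 := by rw [← map_pow, E.a5, map_one]
  b5 := by rw [← map_pow, E.b5, map_one]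
  c5 := by rw [← map_pow, E.c5, map_one]
  d5 := by rw [← map_pow, E.d5, map_one]
  av := E.av.map f
  bv := E.bv.map f
  cv := E.cv.map f
  dv := E.dv.map f
  k5 := E.k5
  l5 := E.l5
  ab := by rw [← map_mul, E.ab, map_mul, map_mul, map_zpow]
  cd := by rw [← map_mul, E.cd, map_mul, map_mul, map_zpow]
  ac := E.ac.map f
  ad := E.ad.map f
  bc := E.bc.map f
  bd := E.bd.map f

theorem mem_map (E : Ext5 v a b c d κ l) (f : G →* H) (hf : Function.Injective f) {w x : G}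
    (hx : w * x * w⁻¹ ∈ E.grp) : f w * f x * (f w)⁻¹ ∈ (E.map f hf).grp := by
  obtain ⟨y, hy⟩ := hx
  refine ⟨y, ?_⟩
  rw [← map_inv, ← map_mul, ← map_mul, ← hy]
  simp only [nf, map_mul, map_zpow]

end Cfsg.Agent.H913.Q5.Ext5

namespace Cfsg.Agent.H913.Q5

/-- **The words in the Baby Monster** (hypothesis `hB` of `stRowB_of`) -/
theorem exists_B : ∃ (v a b c d w : Cfsg.Spor.BabyMonster) (κ l : ℤ) (E : Ext5 v a b c d κ l), w ^ 3 = 1 ∧
    w * a * w⁻¹ ∈ E.grp ∧ w * b * w⁻¹ ∈ E.grp ∧ w * c * w⁻¹ ∈ E.grp ∧ w * d * w⁻¹ ∈ E.grp ∧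
    w * v * w⁻¹ ∈ E.grp ∧ w * a ≠ a * w := by
  obtain ⟨v, a, b, c, d, w, κ, l, E, w3, ha, hb, hc, hd, hv, hne⟩ := BW.main
  let f := BM.KHAll.iso.symm.toMonoidHom
  have hf : Function.Injective f := BM.KHAll.iso.symm.injective
  refine ⟨f v, f a, f b, f c, f d, f w, κ, l, E.map f hf, ?_, E.mem_map f hf ha, E.mem_map f hf hb,
    E.mem_map f hf hc, E.mem_map f hf hd, E.mem_map f hf hv, ?_⟩
  · rw [← map_pow, w3, map_one]
  · intro h
    rw [← map_mul, ← map_mul] at h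
    exact hne (hf h)

end Cfsg.Agent.H913.Q5
end

-- part: H103/GT/UTwoP
section
prune_inst 0x10404500440200000000050030003c26b2000000004b00000802080004880e0080002620b40000100808880440390020020000a04020000002000000011800800000020081080100000006000080000000000000000000000000000000000004000000000
set_option linter.all false
open scoped Cfsg.Agent.FastGrp

/-!
# S5211: (U2P), transport to `Sp₄(p)` and assembly (helper103)
-/

set_option autoImplicit false
set_option linter.unusedSimpArgs false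

namespace Cfsg.Agent.H103.GT

open Cfsg Matrix Cfsg.Agent.H779.G2
open scoped MatrixGroups

universe u v

/-- `StU2P` without its third conclusion -/
def StU2PW : Prop :=
  ∀ {K : Type u} [Field K] {p : ℕ} [Fact p.Prime], HypG K p 1 → 11 ≤ p →
    ∀ (L : Subgroup (GL (Fin 4) K)), (∀ g ∈ L, (g : Matrix (Fin 4) (Fin 4) K).transpose * Om * (g : Matrix (Fin 4) (Fin 4) K) = Om) →
    ¬ p ^ 2 ∣ Nat.card L → ∀ P : Sylow p L, (∀ g : L, g ∈ (P : Subgroup L) ↔ ∃ t : K, ((g : GL (Fin 4) K) : Matrix (Fin 4) (Fin 4) K) = Xm t) →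
    ¬ (P : Subgroup L).Normal →
    (∃ g ∈ L, ∃ i : Fin 4, i ≠ 3 ∧ (g : Matrix (Fin 4) (Fin 4) K) i 3 ≠ 0) →
    (∃ g ∈ L, ∃ i j : Fin 4, (i : ℕ) < 2 ∧ 2 ≤ (j : ℕ) ∧ (g : Matrix (Fin 4) (Fin 4) K) i j ≠ 0) →
    (∀ P' P'' : Sylow p L, P' ≠ P → P'' ≠ P → ∃ x ∈ (P : Subgroup L),
      (P' : Subgroup L).map (MulAut.conj x).toMonoidHom = P'') ∧
    (∀ P' : Sylow p L, P' ≠ P → ∃ x y : L, x ∈ (P : Subgroup L) ∧ x ≠ 1 ∧ y ∈ (P' : Subgroup L) ∧
      (P : Subgroup L).map (MulAut.conj (x * y * x)).toMonoidHom = P' ∧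
      (P' : Subgroup L).map (MulAut.conj (x * y * x)).toMonoidHom = P)

/-- (A) the geometric classes -/
def StRes : Prop :=
  ∀ {F : Type u} [Field F] [Fintype F] {p : ℕ} [Fact p.Prime], 11 ≤ p → Fintype.card F = p →
    ∀ (L : Subgroup (GL (Fin 2 ⊕ Fin 2) F)), L ≤ Cfsg.spGL 2 F → L ≠ Cfsg.spGL 2 F →
    ∀ x : GL (Fin 2 ⊕ Fin 2) F, x ∈ L → x ^ p = 1 →
    ((x : Matrix (Fin 2 ⊕ Fin 2) (Fin 2 ⊕ Fin 2) F) - 1) ^ 4 = 0 →
    ((x : Matrix (Fin 2 ⊕ Fin 2) (Fin 2 ⊕ Fin 2) F) - 1) ^ 3 ≠ 0 →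
    (∀ W : Submodule F (Fin 2 ⊕ Fin 2 → F),
      (∀ g ∈ L, ∀ v ∈ W, (g : Matrix (Fin 2 ⊕ Fin 2) (Fin 2 ⊕ Fin 2) F) *ᵥ v ∈ W) → W = ⊥ ∨ W = ⊤) →
    ∃ H, Cfsg.Geo.IsMaximalIn (Cfsg.spGL 2 F) H ∧ L ≤ H ∧ Cfsg.Geo.InSymplecticResidualClass H

/-- (B) the residual class -/
def StCon : Prop :=
  ∀ {F : Type u} [Field F] [Fintype F] {p : ℕ} [Fact p.Prime], 11 ≤ p → Fintype.card F = p →
    ∀ H : Subgroup (GL (Fin 2 ⊕ Fin 2) F), Cfsg.Geo.IsMaximalIn (Cfsg.spGL 2 F) H → Cfsg.Geo.InSymplecticResidualClass H →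
    ∀ {G : Type v} [Group G] [Finite G] (f : G →* GL (Fin 2 ⊕ Fin 2) F), Function.Injective f → f.range ≤ H →
    p ∣ Nat.card G → ∀ P : Sylow p G, ¬ (P : Subgroup G).Normal →
    (∀ P' P'' : Sylow p G, P' ≠ P → P'' ≠ P → ∃ x ∈ (P : Subgroup G),
      (P' : Subgroup G).map (MulAut.conj x).toMonoidHom = P'') ∧
    (∀ P' : Sylow p G, P' ≠ P → ∃ x y : G, x ∈ (P : Subgroup G) ∧ x ≠ 1 ∧ y ∈ (P' : Subgroup G) ∧
      (P : Subgroup G).map (MulAut.conj (x * y * x)).toMonoidHom = P' ∧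
      (P' : Subgroup G).map (MulAut.conj (x * y * x)).toMonoidHom = P)

/-! ### The change of basis -/

section

variable {K : Type u} [Field K]

local notation "I4" => (Fin 2 ⊕ Fin 2)

variable (K) in
/-- `x ↦ (x₃, x₂ | x₀, -3 x₁)` -/
def Cm : Matrix I4 (Fin 4) K
  | Sum.inl 0, j => if j = 3 then 1 else 0
  | Sum.inl 1, j => if j = 2 then 1 else 0
  | Sum.inr 0, j => if j = 0 then 1 else 0
  | Sum.inr 1, j => if j = 1 then -3 else 0

variable (K) in
/-- the inverse of `Cm` -/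
def Cm' : Matrix (Fin 4) I4 K
  | i, Sum.inl 0 => if i = 3 then 1 else 0
  | i, Sum.inl 1 => if i = 2 then 1 else 0
  | i, Sum.inr 0 => if i = 0 then 1 else 0
  | i, Sum.inr 1 => if i = 1 then -3⁻¹ else 0

theorem Cm'_mul (h3 : (3 : K) ≠ 0) : Cm' K * Cm K = 1 := by
  ext i j
  (revert i j; simp only [Matrix.mul_apply, Fintype.sum_sum_type, Fin.sum_univ_two, Cm, Cm', Matrix.one_apply, h3, _root_.Fin.forall_fin_succ, Fin.isValue, _root_.mul_ite, _root_.mul_one, _root_.MulZeroClass.mul_zero, _root_.mul_neg, _root_.ite_mul, _root_.neg_mul, _root_.ne_eq, _root_.not_false_eq_true, _root_.inv_mul_cancel₀, _root_.MulZeroClass.zero_mul, Fin.reduceEq, ↓reduceIte, _root_.add_zero, _root_.zero_ne_one, _root_.zero_add, _root_.Fin.succ_ne_zero, _root_.Fin.succ_zero_eq_one, _root_.Fin.succ_one_eq_two, Fin.reduceSucc, _root_.IsEmpty.forall_iff, _root_.and_self, _root_.and_true, _root_.true_and, _root_.neg_zero, _root_.neg_neg])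

theorem Cm_mul (h3 : (3 : K) ≠ 0) : Cm K * Cm' K = 1 := by
  ext i j
  rcases i with i | i <;> rcases j with j | j <;> (revert i j; simp only [Matrix.mul_apply, Fin.sum_univ_four, Cm, Cm', Matrix.one_apply, h3, _root_.Fin.forall_fin_succ, Fin.isValue, _root_.Sum.inl.injEq, Fin.reduceEq, ↓reduceIte, _root_.MulZeroClass.mul_zero, _root_.add_zero, _root_.mul_one, _root_.zero_add, _root_.Fin.succ_zero_eq_one, _root_.IsEmpty.forall_iff, _root_.and_true, _root_.zero_ne_one, _root_.and_self, _root_.Fin.succ_ne_zero, _root_.ne_eq, reduceCtorEq, _root_.not_false_eq_true, _root_.Matrix.one_apply_ne, _root_.one_ne_zero, _root_.mul_neg, _root_.neg_eq_zero, _root_.mul_eq_zero, _root_.inv_eq_zero, _root_.or_false, _root_.Sum.inr.injEq, _root_.MulZeroClass.zero_mul, _root_.neg_zero, _root_.neg_mul, _root_.mul_inv_cancel₀, _root_.neg_neg])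

theorem Cm_v0 (x : Fin 4 → K) : (Cm K *ᵥ x) (Sum.inl 0) = x 3 := by
  simp [Matrix.mulVec, dotProduct, Fin.sum_univ_four, Cm]

theorem Cm_v1 (x : Fin 4 → K) : (Cm K *ᵥ x) (Sum.inl 1) = x 2 := by
  simp [Matrix.mulVec, dotProduct, Fin.sum_univ_four, Cm]

theorem Cm_v2 (x : Fin 4 → K) : (Cm K *ᵥ x) (Sum.inr 0) = x 0 := by
  simp only [Matrix.mulVec, dotProduct, Fin.sum_univ_four, Cm, _root_.Fin.isValue, _root_.ite_mul, _root_.one_mul, _root_.MulZeroClass.zero_mul, _root_.Finset.sum_ite_eq', _root_.Finset.mem_univ, ↓ _root_.reduceIte]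

theorem Cm_v3 (x : Fin 4 → K) : (Cm K *ᵥ x) (Sum.inr 1) = -3 * x 1 := by
  simp only [Matrix.mulVec, dotProduct, Fin.sum_univ_four, Cm, _root_.Fin.isValue, _root_.ite_mul, _root_.neg_mul, _root_.MulZeroClass.zero_mul, _root_.Finset.sum_ite_eq', _root_.Finset.mem_univ, ↓ _root_.reduceIte]

theorem om_eq (u v : Fin 4 → K) : u ⬝ᵥ (Om *ᵥ v) = u 0 * v 3 - 3 * u 1 * v 2 + 3 * u 2 * v 1 - u 3 * v 0 := by
  simp only [Matrix.mulVec, dotProduct, Fin.sum_univ_four, Om, _root_.Matrix.of_apply, _root_.Matrix.cons_val', _root_.Matrix.cons_val_fin_one, _root_.Fin.isValue, _root_.Matrix.cons_val_zero, _root_.Matrix.cons_val_one, _root_.Matrix.cons_val, _root_.MulZeroClass.zero_mul, _root_.add_zero, _root_.one_mul, _root_.zero_add, _root_.neg_mul, _root_.mul_neg]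
  ring

theorem sympForm_Cm (u v : Fin 4 → K) : sympForm 2 K (Cm K *ᵥ u) (Cm K *ᵥ v) = u ⬝ᵥ (Om *ᵥ v) := by
  rw [Cfsg.Agent.ClassicalGeometry.SympBasic.sympForm_eq_sum, om_eq, Fin.sum_univ_two, Cm_v0, Cm_v1, Cm_v2, Cm_v3,
    Cm_v0, Cm_v1, Cm_v2, Cm_v3]
  ring

/-- the isomorphism `GL₄ → GL(2 ⊕ 2)` -/
noncomputable def fc (h3 : (3 : K) ≠ 0) : GL (Fin 4) K →* GL I4 K :=
  Units.map
    { toFun := fun M => Cm K * M * Cm' K
      map_one' := by rw [Matrix.mul_one, Cm_mul h3]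
      map_mul' := fun M N => by
        have h := Cm'_mul h3
        calc Cm K * (M * N) * Cm' K = Cm K * M * (1 : Matrix (Fin 4) (Fin 4) K) * N * Cm' K := by
              rw [Matrix.mul_one, ← Matrix.mul_assoc (Cm K)]
          _ = Cm K * M * (Cm' K * Cm K) * N * Cm' K := by rw [h]
          _ = Cm K * M * Cm' K * (Cm K * N * Cm' K) := by simp only [Matrix.mul_assoc] }

theorem coe_fc (h3 : (3 : K) ≠ 0) (g : GL (Fin 4) K) :
    ((fc h3 g : GL I4 K) : Matrix I4 I4 K) = Cm K * (g : Matrix (Fin 4) (Fin 4) K) * Cm' K := rfl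

theorem fc_injective (h3 : (3 : K) ≠ 0) : Function.Injective (fc (K := K) h3) := by
  intro g h hgh
  apply Units.ext
  have h1 := congrArg (fun x : GL I4 K => Cm' K * (x : Matrix I4 I4 K) * Cm K) hgh
  simp only [coe_fc] at h1
  have key : ∀ M : Matrix (Fin 4) (Fin 4) K, Cm' K * (Cm K * M * Cm' K) * Cm K = M := by
    intro M
    calc Cm' K * (Cm K * M * Cm' K) * Cm K = (Cm' K * Cm K) * M * (Cm' K * Cm K) := by simp only [Matrix.mul_assoc]
      _ = M := by rw [Cm'_mul h3, Matrix.one_mul, Matrix.mul_one]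
  rw [key, key] at h1
  exact h1

theorem fc_mulVec (h3 : (3 : K) ≠ 0) (g : GL (Fin 4) K) (v : Fin 4 → K) :
    ((fc h3 g : GL I4 K) : Matrix I4 I4 K) *ᵥ (Cm K *ᵥ v) = Cm K *ᵥ ((g : Matrix (Fin 4) (Fin 4) K) *ᵥ v) := by
  rw [coe_fc, Matrix.mulVec_mulVec, Matrix.mulVec_mulVec, Matrix.mul_assoc, Matrix.mul_assoc, Cm'_mul h3, Matrix.mul_one]

theorem exists_Cm (h3 : (3 : K) ≠ 0) (w : I4 → K) : ∃ v : Fin 4 → K, w = Cm K *ᵥ v :=
  ⟨Cm' K *ᵥ w, by rw [Matrix.mulVec_mulVec, Cm_mul h3, Matrix.one_mulVec]⟩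

theorem fc_mem (h3 : (3 : K) ≠ 0) {g : GL (Fin 4) K}
    (hg : (g : Matrix (Fin 4) (Fin 4) K).transpose * Om * (g : Matrix (Fin 4) (Fin 4) K) = Om) :
    fc h3 g ∈ Cfsg.spGL 2 K := by
  intro u v
  obtain ⟨u, rfl⟩ := exists_Cm h3 u
  obtain ⟨v, rfl⟩ := exists_Cm h3 v
  show sympForm 2 K (((fc h3 g : GL I4 K) : Matrix I4 I4 K) *ᵥ _) (((fc h3 g : GL I4 K) : Matrix I4 I4 K) *ᵥ _) = _
  rw [fc_mulVec, fc_mulVec, sympForm_Cm, sympForm_Cm]
  conv_rhs => rw [← hg]
  rw [← Matrix.mulVec_mulVec, ← Matrix.mulVec_mulVec, Matrix.dotProduct_mulVec _ (g : Matrix (Fin 4) (Fin 4) K)ᵀ,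
    Matrix.vecMul_transpose]

/-! ### the regular unipotent element -/

theorem Xm_zero : Xm (0 : K) = 1 := by
  ext i j
  (revert i j; simp only [Xm, Matrix.one_apply, _root_.Fin.forall_fin_succ, _root_.neg_zero, _root_.ne_eq, _root_.OfNat.ofNat_ne_zero, _root_.not_false_eq_true, _root_.zero_pow, _root_.MulZeroClass.mul_zero, _root_.Matrix.of_apply, _root_.Matrix.cons_val', _root_.Matrix.cons_val_fin_one, Fin.isValue, _root_.Matrix.cons_val_zero, _root_.Matrix.cons_val_succ, _root_.Fin.succ_zero_eq_one, _root_.Fin.succ_one_eq_two, Fin.reduceSucc, _root_.IsEmpty.forall_iff, _root_.and_true, ↓reduceIte, _root_.zero_ne_one, Fin.reduceEq, _root_.and_self, _root_.Fin.succ_ne_zero, _root_.right_eq_ite_iff, _root_.imp_false, _root_.left_eq_ite_iff, _root_.one_ne_zero, _root_.Decidable.not_not, _root_.true_and])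

theorem Xm_mul (s t : K) : Xm s * Xm t = Xm (s + t) := by
  ext i j
  (revert i j; simp only [Xm, Matrix.mul_apply, Fin.sum_univ_four, _root_.Fin.forall_fin_succ, _root_.neg_mul, _root_.Matrix.of_apply, _root_.Matrix.cons_val', _root_.Matrix.cons_val_fin_one, Fin.isValue, _root_.Matrix.cons_val_zero, _root_.Matrix.cons_val_one, _root_.Matrix.cons_val, _root_.neg_add_rev, _root_.mul_one, _root_.mul_neg, _root_.Matrix.cons_val_succ, _root_.MulZeroClass.mul_zero, _root_.zero_add, _root_.add_zero, _root_.implies_true, _root_.and_true, _root_.MulZeroClass.zero_mul, _root_.neg_zero, _root_.and_self, _root_.one_mul, _root_.neg_neg, _root_.forall_const, _root_.true_and]) <;> (repeat' with_reducible apply And.intro) <;> ring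

theorem Xm_pow (t : K) (k : ℕ) : Xm t ^ k = Xm (k * t) := by
  induction k with
  | zero => rw [pow_zero, Nat.cast_zero, zero_mul, Xm_zero]
  | succ k ih =>
    rw [pow_succ, ih, Xm_mul]
    congr 1
    push_cast
    ring

/-- `N = Xm t - 1`, its square and its cube -/
theorem Xm_sub (t : K) : Xm t - 1 = !![0, 0, 0, 0; -t, 0, 0, 0; t ^ 2, -2 * t, 0, 0; -t ^ 3, 3 * t ^ 2, -3 * t, 0] := by
  ext i j
  (revert i j; simp only [Xm, Matrix.one_apply, _root_.Fin.forall_fin_succ, _root_.neg_mul, _root_.Matrix.sub_apply, _root_.Matrix.of_apply, _root_.Matrix.cons_val', _root_.Matrix.cons_val_fin_one, Fin.isValue, _root_.Matrix.cons_val_zero, _root_.Matrix.cons_val_succ, _root_.Fin.succ_zero_eq_one, _root_.Fin.succ_one_eq_two, Fin.reduceSucc, _root_.IsEmpty.forall_iff, _root_.and_true, ↓reduceIte, _root_.sub_self, _root_.zero_ne_one, Fin.reduceEq, _root_.and_self, _root_.Fin.succ_ne_zero, _root_.sub_zero, _root_.true_and, _root_.sub_eq_self,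 _root_.ite_eq_right_iff, _root_.one_ne_zero, _root_.imp_false, _root_.not_false_eq_true])

theorem Xm_sq (t : K) : (Xm t - 1) ^ 2 = !![0, 0, 0, 0; 0, 0, 0, 0; 2 * t ^ 2, 0, 0, 0; -6 * t ^ 3, 6 * t ^ 2, 0, 0] := by
  rw [sq, Xm_sub]
  ext i j
  (revert i j; simp only [Matrix.mul_apply, Fin.sum_univ_four, _root_.Fin.forall_fin_succ, _root_.neg_mul, _root_.Matrix.of_apply, _root_.Matrix.cons_val', _root_.Matrix.cons_val_fin_one, Fin.isValue, _root_.Matrix.cons_val_zero, _root_.Matrix.cons_val_one, _root_.Matrix.cons_val, _root_.MulZeroClass.mul_zero, _root_.mul_neg, _root_.zero_add, _root_.Matrix.cons_val_succ, _root_.add_zero, _root_.forall_const, _root_.MulZeroClass.zero_mul, _root_.neg_zero, _root_.and_self, _root_.neg_neg, _root_.and_true, _root_.true_and]) <;> (repeat' with_reducible apply And.intro) <;> ring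

theorem Xm_cube (t : K) : (Xm t - 1) ^ 3 = !![0, 0, 0, 0; 0, 0, 0, 0; 0, 0, 0, 0; -6 * t ^ 3, 0, 0, 0] := by
  rw [pow_succ, Xm_sq, Xm_sub]
  ext i j
  (revert i j; simp only [Matrix.mul_apply, Fin.sum_univ_four, _root_.Fin.forall_fin_succ, _root_.neg_mul, _root_.Matrix.of_apply, _root_.Matrix.cons_val', _root_.Matrix.cons_val_fin_one, Fin.isValue, _root_.Matrix.cons_val_zero, _root_.Matrix.cons_val_one, _root_.Matrix.cons_val, _root_.MulZeroClass.mul_zero, _root_.mul_neg, _root_.zero_add, _root_.Matrix.cons_val_succ, _root_.add_zero, _root_.forall_const, _root_.MulZeroClass.zero_mul, _root_.neg_zero, _root_.and_self, _root_.neg_inj, _root_.and_true, _root_.true_and]) <;> (repeat' with_reducible apply And.intro) <;> ring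

set_option linter.unnecessarySeqFocus false in
theorem Xm_four (t : K) : (Xm t - 1) ^ 4 = 0 := by
  rw [pow_succ, Xm_cube, Xm_sub]
  ext i j
  (revert i j; simp only [Matrix.mul_apply, Fin.sum_univ_four, _root_.Fin.forall_fin_succ, _root_.neg_mul, _root_.Matrix.of_apply, _root_.Matrix.cons_val', _root_.Matrix.cons_val_fin_one, Fin.isValue, _root_.Matrix.cons_val_zero, _root_.Matrix.cons_val_one, _root_.Matrix.cons_val, _root_.Matrix.zero_apply, _root_.MulZeroClass.mul_zero, _root_.mul_neg, _root_.zero_add, _root_.Matrix.cons_val_succ, _root_.add_zero, _root_.neg_eq_zero, _root_.mul_eq_zero, _root_.implies_true, _root_.and_true, _root_.MulZeroClass.zero_mul, _root_.neg_zero, _root_.true_or, _root_.and_self])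

theorem fc_sub_pow (h3 : (3 : K) ≠ 0) (g : GL (Fin 4) K) (k : ℕ) :
    (((fc h3 g : GL I4 K) : Matrix I4 I4 K) - 1) ^ k = Cm K * ((g : Matrix (Fin 4) (Fin 4) K) - 1) ^ k * Cm' K := by
  have h1 : ((fc h3 g : GL I4 K) : Matrix I4 I4 K) - 1 = Cm K * ((g : Matrix (Fin 4) (Fin 4) K) - 1) * Cm' K := by
    rw [coe_fc, Matrix.mul_sub, Matrix.sub_mul, Matrix.mul_one, Cm_mul h3]
  induction k with
  | zero => rw [pow_zero, pow_zero, Matrix.mul_one, Cm_mul h3]
  | succ k ih =>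
    rw [pow_succ, ih, h1, pow_succ]
    calc Cm K * ((g : Matrix (Fin 4) (Fin 4) K) - 1) ^ k * Cm' K * (Cm K * ((g : Matrix (Fin 4) (Fin 4) K) - 1) * Cm' K)
        = Cm K * ((g : Matrix (Fin 4) (Fin 4) K) - 1) ^ k * (Cm' K * Cm K) * ((g : Matrix (Fin 4) (Fin 4) K) - 1) * Cm' K := by
          simp only [Matrix.mul_assoc]
      _ = _ := by rw [Cm'_mul h3, Matrix.mul_one, Matrix.mul_assoc (Cm K)]

theorem Cm_eq_zero (h3 : (3 : K) ≠ 0) {M : Matrix (Fin 4) (Fin 4) K} (h : Cm K * M * Cm' K = 0) : M = 0 := by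
  have h1 : Cm' K * (Cm K * M * Cm' K) * Cm K = M := by
    calc Cm' K * (Cm K * M * Cm' K) * Cm K = (Cm' K * Cm K) * M * (Cm' K * Cm K) := by simp only [Matrix.mul_assoc]
      _ = M := by rw [Cm'_mul h3, Matrix.one_mul, Matrix.mul_one]
  rw [← h1, h, Matrix.mul_zero, Matrix.zero_mul]

/-! ### irreducibility -/

/-- an invariant subspace of a group containing `Xm 1` and moving `⟨e⟩` and `⟨d, e⟩` is trivial -/
theorem irr (h2 : (2 : K) ≠ 0) (h3 : (3 : K) ≠ 0) (L : Subgroup (GL (Fin 4) K))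
    (hL : ∀ g ∈ L, (g : Matrix (Fin 4) (Fin 4) K).transpose * Om * (g : Matrix (Fin 4) (Fin 4) K) = Om)
    {x : GL (Fin 4) K} (hx : x ∈ L) (hx1 : (x : Matrix (Fin 4) (Fin 4) K) = Xm 1)
    (h1 : ∃ g ∈ L, ∃ i : Fin 4, i ≠ 3 ∧ (g : Matrix (Fin 4) (Fin 4) K) i 3 ≠ 0)
    (h4 : ∃ g ∈ L, ∃ i j : Fin 4, (i : ℕ) < 2 ∧ 2 ≤ (j : ℕ) ∧ (g : Matrix (Fin 4) (Fin 4) K) i j ≠ 0)
    (W : Submodule K (Fin 4 → K)) (hW : ∀ g ∈ L, ∀ v ∈ W, (g : Matrix (Fin 4) (Fin 4) K) *ᵥ v ∈ W) : W = ⊥ ∨ W = ⊤ := by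
  have h6 : (6 : K) ≠ 0 := by
    have : (6 : K) = 2 * 3 := by norm_num
    rw [this]
    exact mul_ne_zero h2 h3
  -- the action of `N = Xm 1 - 1`
  have hN : ∀ v ∈ W, (![0, -v 0, v 0 - 2 * v 1, -v 0 + 3 * v 1 - 3 * v 2] : Fin 4 → K) ∈ W := by
    intro v hv
    have h5 := W.sub_mem (hW x hx v hv) hv
    have h6 : (x : Matrix (Fin 4) (Fin 4) K) *ᵥ v - v = ![0, -v 0, v 0 - 2 * v 1, -v 0 + 3 * v 1 - 3 * v 2] := by
      rw [hx1]
      ext i
      (revert i; simp only [Xm, Matrix.mulVec, dotProduct, Fin.sum_univ_four, _root_.Fin.forall_fin_succ, _root_.one_pow, _root_.mul_one, _root_.Matrix.cons_mulVec, Fin.isValue, _root_.Matrix.cons_val_zero, _root_.one_mul, _root_.Matrix.cons_val_one, _root_.MulZeroClass.zero_mul, _root_.add_zero, _root_.Matrix.cons_val, _root_.neg_mul, _root_.Matrix.empty_mulVec, _root_.Pi.sub_apply, _root_.Nat.succ_eq_add_one, Nat.reduceAdd, _root_.sub_self, _root_.Matrix.cons_val_succ, _root_.Fin.succ_zero_eq_one,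 _root_.add_sub_cancel_right, _root_.Fin.succ_one_eq_two, _root_.Matrix.cons_val_fin_one, Fin.reduceSucc, _root_.IsEmpty.forall_iff, _root_.and_true, _root_.true_and]) <;> (repeat' with_reducible apply And.intro) <;> ring
    rwa [h6] at h5
  -- leading coefficients
  have d3 : ∀ v ∈ W, v 0 = 0 → v 1 = 0 → v 2 = 0 → v 3 ≠ 0 → (![0, 0, 0, 1] : Fin 4 → K) ∈ W := by
    intro v hv h0 h1 h2 hc
    have := W.smul_mem (v 3)⁻¹ hv
    convert this using 1
    ext i
    (revert i; simp only [h0, h1, h2, hc, _root_.Fin.forall_fin_succ, _root_.Nat.succ_eq_add_one, Nat.reduceAdd, Fin.isValue, _root_.Pi.smul_apply, _root_.smul_eq_mul, _root_.Matrix.cons_val_zero, _root_.MulZeroClass.mul_zero, _root_.Matrix.cons_val_succ, _root_.Fin.succ_zero_eq_one, _root_.Fin.succ_one_eq_two, _root_.Matrix.cons_val_fin_one, Fin.reduceSucc, _root_.ne_eq, _root_.not_false_eq_true, _root_.inv_mul_cancel₀, _root_.IsEmpty.forall_iff, _root_.and_self])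
  have d2 : ∀ v ∈ W, v 0 = 0 → v 1 = 0 → v 2 ≠ 0 →
      (![0, 0, 1, 0] : Fin 4 → K) ∈ W ∧ (![0, 0, 0, 1] : Fin 4 → K) ∈ W := by
    intro v hv h0 h1 hc
    have m3 := d3 _ (hN v hv) (by simp) (by simp [h0]) (by simp [h0, h1]) (by simp [h0, h1, hc, h3])
    refine ⟨?_, m3⟩
    have := W.smul_mem (v 2)⁻¹ (W.sub_mem hv (W.smul_mem (v 3) m3))
    convert this using 1
    ext i
    (revert i; simp only [h0, h1, hc, Matrix.vecHead, Matrix.vecTail, _root_.Fin.forall_fin_succ, _root_.Nat.succ_eq_add_one, Nat.reduceAdd, Fin.isValue, _root_.Matrix.smul_cons, _root_.smul_eq_mul, _root_.MulZeroClass.mul_zero, _root_.mul_one, _root_.Matrix.smul_empty, _root_.Matrix.sub_cons, _root_.sub_self, _root_.Function.comp_apply, _root_.Fin.succ_zero_eq_one, _root_.Fin.succ_one_eq_two, _root_.sub_zero, Fin.reduceSucc, _root_.Matrix.empty_sub_empty, _root_.Pi.smul_apply, _root_.Matrix.cons_val_zero, _root_.Matrix.cons_val_succ, _root_.ne_eq, _root_.not_false_eq_true,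 _root_.inv_mul_cancel₀, _root_.Matrix.cons_val_fin_one, _root_.implies_true, _root_.and_self])
  have d1 : ∀ v ∈ W, v 0 = 0 → v 1 ≠ 0 → (![0, 1, 0, 0] : Fin 4 → K) ∈ W ∧
      (![0, 0, 1, 0] : Fin 4 → K) ∈ W ∧ (![0, 0, 0, 1] : Fin 4 → K) ∈ W := by
    intro v hv h0 hc
    obtain ⟨m2, m3⟩ := d2 _ (hN v hv) (by simp) (by simp [h0]) (by simp [h0, hc, h2])
    refine ⟨?_, m2, m3⟩
    have := W.smul_mem (v 1)⁻¹ (W.sub_mem (W.sub_mem hv (W.smul_mem (v 3) m3)) (W.smul_mem (v 2) m2))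
    convert this using 1
    ext i
    (revert i; simp only [h0, hc, Matrix.vecHead, Matrix.vecTail, _root_.Fin.forall_fin_succ, _root_.Nat.succ_eq_add_one, Nat.reduceAdd, Fin.isValue, _root_.Matrix.smul_cons, _root_.smul_eq_mul, _root_.MulZeroClass.mul_zero, _root_.mul_one, _root_.Matrix.smul_empty, _root_.Matrix.sub_cons, _root_.sub_self, _root_.Function.comp_apply, _root_.Fin.succ_zero_eq_one, _root_.sub_zero, _root_.Fin.succ_one_eq_two, Fin.reduceSucc, _root_.Matrix.empty_sub_empty, _root_.Matrix.cons_val_zero, _root_.Matrix.cons_val_one, _root_.Matrix.cons_val, _root_.Pi.smul_apply, _root_.Matrix.cons_val_succ, _root_.ne_eq, _root_.not_false_eq_true, _root_.inv_mul_cancel₀, _root_.Matrix.cons_val_fin_one, _root_.implies_true, _root_.and_self])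
  have d0 : ∀ v ∈ W, v 0 ≠ 0 → (![1, 0, 0, 0] : Fin 4 → K) ∈ W ∧ (![0, 1, 0, 0] : Fin 4 → K) ∈ W ∧
      (![0, 0, 1, 0] : Fin 4 → K) ∈ W ∧ (![0, 0, 0, 1] : Fin 4 → K) ∈ W := by
    intro v hv hc
    obtain ⟨m1, m2, m3⟩ := d1 _ (hN v hv) (by simp) (by simp [hc])
    refine ⟨?_, m1, m2, m3⟩
    have := W.smul_mem (v 0)⁻¹ (W.sub_mem (W.sub_mem (W.sub_mem hv (W.smul_mem (v 3) m3)) (W.smul_mem (v 2) m2))
      (W.smul_mem (v 1) m1))
    convert this using 1
    ext i
    (revert i; simp only [hc, Matrix.vecHead, Matrix.vecTail, _root_.Fin.forall_fin_succ, _root_.Nat.succ_eq_add_one, Nat.reduceAdd, Fin.isValue, _root_.Matrix.smul_cons, _root_.smul_eq_mul, _root_.MulZeroClass.mul_zero, _root_.mul_one, _root_.Matrix.smul_empty, _root_.Matrix.sub_cons, _root_.sub_zero, _root_.Function.comp_apply, _root_.Fin.succ_zero_eq_one, _root_.Fin.succ_one_eq_two, Fin.reduceSucc, _root_.sub_self, _root_.Matrix.empty_sub_empty, _root_.Matrix.cons_val_zero,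 _root_.Matrix.cons_val_one, _root_.Matrix.cons_val, _root_.Pi.smul_apply, _root_.ne_eq, _root_.not_false_eq_true, _root_.inv_mul_cancel₀, _root_.Matrix.cons_val_succ, _root_.Matrix.cons_val_fin_one, _root_.implies_true, _root_.and_self])
  -- `e₃` is moved
  obtain ⟨g, hg, i, hi, hgi⟩ := h1
  obtain ⟨g', hg', i', j', hi', hj', hgi'⟩ := h4
  have hge : ∀ (M : Matrix (Fin 4) (Fin 4) K) (i : Fin 4), (M *ᵥ (![0, 0, 0, 1] : Fin 4 → K)) i = M i 3 := by
    intro M i
    simp [Matrix.mulVec, dotProduct, Fin.sum_univ_four]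
  by_cases c0 : ∃ v ∈ W, v 0 ≠ 0
  · right
    obtain ⟨v, hv, hv0⟩ := c0
    obtain ⟨m0, m1, m2, m3⟩ := d0 v hv hv0
    rw [eq_top_iff]
    intro w _
    have : w = w 0 • ![1, 0, 0, 0] + w 1 • ![0, 1, 0, 0] + w 2 • ![0, 0, 1, 0] + w 3 • ![0, 0, 0, 1] := by
      ext i
      (revert i; simp only [_root_.Fin.forall_fin_succ, _root_.Nat.succ_eq_add_one, Nat.reduceAdd, Fin.isValue, _root_.Matrix.smul_cons, _root_.smul_eq_mul, _root_.mul_one, _root_.MulZeroClass.mul_zero, _root_.Matrix.smul_empty, _root_.Matrix.add_cons, _root_.Matrix.head_cons, _root_.add_zero, _root_.Matrix.tail_cons, _root_.zero_add, _root_.Matrix.empty_add_empty, _root_.Pi.add_apply, _root_.Matrix.cons_val_zero, _root_.Matrix.cons_val_succ, _root_.Fin.succ_zero_eq_one, _root_.Fin.succ_one_eq_two, _root_.Matrix.cons_val_fin_one, Fin.reduceSucc, _root_.IsEmpty.forall_iff, _root_.and_self])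
    rw [this]
    exact W.add_mem (W.add_mem (W.add_mem (W.smul_mem _ m0) (W.smul_mem _ m1)) (W.smul_mem _ m2)) (W.smul_mem _ m3)
  left
  push Not at c0
  by_cases c1 : ∃ v ∈ W, v 1 ≠ 0
  · exfalso
    obtain ⟨v, hv, hv1⟩ := c1
    obtain ⟨m1, m2, m3⟩ := d1 v hv (c0 v hv) hv1
    -- `g e₃` is orthogonal to `W`
    have key : ∀ w ∈ W, ((g : Matrix (Fin 4) (Fin 4) K) *ᵥ (![0, 0, 0, 1] : Fin 4 → K)) ⬝ᵥ (Om *ᵥ w) = 0 := by
      intro w hw
      have hw' : ((g⁻¹ : GL (Fin 4) K) : Matrix (Fin 4) (Fin 4) K) *ᵥ w ∈ W := hW _ (L.inv_mem hg) w hw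
      have e : w = (g : Matrix (Fin 4) (Fin 4) K) *ᵥ (((g⁻¹ : GL (Fin 4) K) : Matrix (Fin 4) (Fin 4) K) *ᵥ w) := by
        rw [Matrix.mulVec_mulVec, ← Units.val_mul, mul_inv_cancel, Units.val_one, Matrix.one_mulVec]
      have e2 : ∀ u v : Fin 4 → K, ((g : Matrix (Fin 4) (Fin 4) K) *ᵥ u) ⬝ᵥ (Om *ᵥ ((g : Matrix (Fin 4) (Fin 4) K) *ᵥ v)) =
          u ⬝ᵥ (Om *ᵥ v) := by
        intro u v
        conv_rhs => rw [← hL g hg]
        rw [← Matrix.mulVec_mulVec, ← Matrix.mulVec_mulVec, Matrix.dotProduct_mulVec _ (g : Matrix (Fin 4) (Fin 4) K)ᵀ,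
          Matrix.vecMul_transpose]
      rw [e, e2, om_eq, c0 _ hw']
      simp
    have k1 := key _ m1
    have k2 := key _ m2
    have k3 := key _ m3
    rw [om_eq, hge, hge, hge, hge] at k1 k2 k3
    simp only [h3, _root_.Fin.isValue, _root_.Matrix.cons_val, _root_.MulZeroClass.mul_zero, _root_.sub_self, _root_.Matrix.cons_val_one, _root_.Matrix.cons_val_zero, _root_.mul_one, _root_.zero_add, _root_.sub_zero, _root_.mul_eq_zero, _root_.false_or, _root_.zero_sub, _root_.add_zero, _root_.neg_eq_zero] at k1 k2 k3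
    fin_cases i
    · exact hgi k3
    · exact hgi k2
    · exact hgi k1
    · exact hi rfl
  push Not at c1
  by_cases c2 : ∃ v ∈ W, v 2 ≠ 0
  · exfalso
    obtain ⟨v, hv, hv2⟩ := c2
    obtain ⟨m2, m3⟩ := d2 v hv (c0 v hv) (c1 v hv) hv2
    have n2 := hW g' hg' _ m2
    have n3 := hW g' hg' _ m3
    have a0 := c0 _ n2
    have a1 := c1 _ n2
    have b0 := c0 _ n3
    have b1 := c1 _ n3
    simp only [Matrix.mulVec, dotProduct, Fin.sum_univ_four, _root_.Fin.isValue, _root_.Matrix.cons_val_zero, _root_.MulZeroClass.mul_zero, _root_.Matrix.cons_val_one, _root_.add_zero, _root_.Matrix.cons_val, _root_.mul_one, _root_.zero_add] at a0 a1 b0 b1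
    fin_cases i' <;> fin_cases j' <;> simp_all only [_root_.ne_eq, _root_.Nat.succ_eq_add_one, _root_.Nat.reduceAdd, _root_.Fin.isValue, _root_.neg_zero, _root_.MulZeroClass.mul_zero, _root_.sub_self, _root_.add_zero, _root_.zero_sub, _root_.implies_true, _root_.imp_self, _root_.and_self, _root_.not_true_eq_false, _root_.and_true, _root_.IsEmpty.forall_iff, _root_.Order.lt_two_iff, _root_.zero_le, _root_.nonpos_iff_eq_zero, _root_.OfNat.ofNat_ne_zero, _root_.Nat.not_ofNat_le_one, _root_.Std.le_refl, _root_.Fin.zero_eta, _root_.Fin.reduceFinMk, _root_.Nat.reduceLeDiff, _root_.Fin.mk_one, _root_.lt_self_iff_false]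
  push Not at c2
  by_cases c3 : ∃ v ∈ W, v 3 ≠ 0
  · exfalso
    obtain ⟨v, hv, hv3⟩ := c3
    have m3 := d3 v hv (c0 v hv) (c1 v hv) (c2 v hv) hv3
    have n3 := hW g hg _ m3
    have b0 := c0 _ n3
    have b1 := c1 _ n3
    have b2 := c2 _ n3
    rw [hge] at b0 b1 b2
    fin_cases i
    · exact hgi b0
    · exact hgi b1
    · exact hgi b2
    · exact hi rfl
  push Not at c3
  rw [eq_bot_iff]
  intro v hv
  rw [Submodule.mem_bot]
  ext i
  fin_cases i
  · exact c0 v hv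
  · exact c1 v hv
  · exact c2 v hv
  · exact c3 v hv

end

/-! ### the assembly -/

open Cfsg.Agent.ClassicalGeometry.SympBasic in
/-- a transvection of `Sp₄(K)`, as an element of `GL` -/
theorem exists_transv (K : Type u) [Field K] : ∃ τ : GL (Fin 2 ⊕ Fin 2) K, τ ∈ Cfsg.spGL 2 K ∧ τ ≠ 1 ∧
    ((τ : Matrix (Fin 2 ⊕ Fin 2) (Fin 2 ⊕ Fin 2) K) - 1) ^ 2 = 0 := by
  let v : Fin 2 ⊕ Fin 2 → K := Pi.single (Sum.inl 0) 1
  let τ : GL (Fin 2 ⊕ Fin 2) K := ⟨sympTransvection 2 v 1, sympTransvection 2 v (-1),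
    by rw [sympTransvection_mul, add_neg_cancel, sympTransvection_zero],
    by rw [sympTransvection_mul, neg_add_cancel, sympTransvection_zero]⟩
  refine ⟨τ, ?_, ?_, ?_⟩
  · intro x y
    exact sympForm_mulVec (sympTransvection_mem v 1) x y
  · intro h
    have h1 : sympTransvection 2 v (1 : K) = 1 := congrArg Units.val h
    have h2 := congrFun (congrArg (fun M => M *ᵥ (Pi.single (Sum.inr 0) 1 : Fin 2 ⊕ Fin 2 → K)) h1) (Sum.inl 0)
    simp only [sympTransvection_mulVec, Matrix.one_mulVec] at h2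
    simp [v, sympForm_single_inr_left] at h2
  · show (sympTransvection 2 v (1 : K) - 1) ^ 2 = 0
    have h1 : ∀ x : Fin 2 ⊕ Fin 2 → K, (sympTransvection 2 v (1 : K) - 1) *ᵥ x = (sympForm 2 K x v) • v := by
      intro x
      rw [Matrix.sub_mulVec, sympTransvection_mulVec, Matrix.one_mulVec, one_mul, add_sub_cancel_left]
    rw [← Matrix.mulVec_injective.eq_iff]
    funext x
    rw [sq, ← Matrix.mulVec_mulVec, h1, h1, sympForm_smul_left, sympForm_self, mul_zero, zero_smul, Matrix.zero_mulVec]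

/-- **(U2P)**, first two conclusions -/
theorem stU2PW_of (hres : StRes.{u}) (hcon : StCon.{u, u}) : StU2PW.{u} := by
  intro K _ p _ hK hp L hL hp2 P hP hn h1 h4
  have hfin : Finite K := hK.fin
  have := Fintype.ofFinite K
  have hchar := hK.char
  have hcard : Fintype.card K = p := by
    rw [← Nat.card_eq_fintype_card, hK.card, pow_one]
  have h2 : (2 : K) ≠ 0 := by
    intro h
    have h' : ((2 : ℕ) : K) = 0 := by exact_mod_cast h
    rw [CharP.cast_eq_zero_iff K p 2] at h'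
    exact absurd (Nat.le_of_dvd (by norm_num) h') (by omega)
  have h3 : (3 : K) ≠ 0 := by
    intro h
    have h' : ((3 : ℕ) : K) = 0 := by exact_mod_cast h
    rw [CharP.cast_eq_zero_iff K p 3] at h'
    exact absurd (Nat.le_of_dvd (by norm_num) h') (by omega)
  have h6 : (6 : K) ≠ 0 := by
    have : (6 : K) = 2 * 3 := by norm_num
    rw [this]
    exact mul_ne_zero h2 h3
  -- `P` is nontrivial, so `Xm 1` lies in `L`
  obtain ⟨x, hxL, hx1⟩ : ∃ x : GL (Fin 4) K, x ∈ L ∧ (x : Matrix (Fin 4) (Fin 4) K) = Xm 1 := by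
    have hPb : (P : Subgroup L) ≠ ⊥ := by
      intro h
      apply hn
      rw [h]
      infer_instance
    obtain ⟨g, hg, hg1⟩ : ∃ g : L, g ∈ (P : Subgroup L) ∧ g ≠ 1 := by
      by_contra hcon
      push Not at hcon
      exact hPb ((Subgroup.eq_bot_iff_forall _).2 hcon)
    obtain ⟨t, ht⟩ := (hP _).1 hg
    have ht0 : t ≠ 0 := by
      rintro rfl
      rw [Xm_zero] at ht
      exact hg1 (Subtype.ext (Units.ext ht))
    have hbij := ZMod.castHom_bijective (R := K) (n := p) hcard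
    obtain ⟨z, hz⟩ := hbij.2 t⁻¹
    refine ⟨(g : GL (Fin 4) K) ^ z.val, L.pow_mem g.2 _, ?_⟩
    rw [Units.val_pow_eq_pow_val, ht, Xm_pow]
    have h5 : ((z.val : ℕ) : K) = t⁻¹ := by
      rw [← hz]
      conv_rhs => rw [← ZMod.natCast_zmod_val z]
      rw [map_natCast]
    rw [h5, inv_mul_cancel₀ ht0]
  have hxp : x ^ p = 1 := by
    apply Units.ext
    rw [Units.val_pow_eq_pow_val, hx1, Xm_pow, CharP.cast_eq_zero, zero_mul, Xm_zero, Units.val_one]
  have hxne : x ≠ 1 := by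
    rintro rfl
    have h5 := congrFun (congrFun hx1 1) 0
    simp [Xm] at h5
  -- the homomorphism
  let f : L →* GL (Fin 2 ⊕ Fin 2) K := (fc h3).comp L.subtype
  have hf : Function.Injective f := (fc_injective h3).comp (Subgroup.subtype_injective L)
  have hmem : ∀ y : GL (Fin 2 ⊕ Fin 2) K, y ∈ f.range ↔ ∃ g ∈ L, y = fc h3 g := by
    intro y
    constructor
    · rintro ⟨g, rfl⟩
      exact ⟨g, g.2, rfl⟩
    · rintro ⟨g, hg, rfl⟩
      exact ⟨⟨g, hg⟩, rfl⟩
  have hle : f.range ≤ Cfsg.spGL 2 K := by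
    intro y hy
    obtain ⟨g, hg, rfl⟩ := (hmem y).1 hy
    exact fc_mem h3 (hL g hg)
  -- no transvections
  have hne : f.range ≠ Cfsg.spGL 2 K := by
    intro h
    obtain ⟨τ, hτ, hτ1, hτ2⟩ := exists_transv K
    rw [← h] at hτ
    obtain ⟨g, hg, rfl⟩ := (hmem τ).1 hτ
    rw [fc_sub_pow] at hτ2
    have hg2 := Cm_eq_zero h3 hτ2
    have hgp : g ^ p = 1 := by
      apply Units.ext
      have h5 : ((g : Matrix (Fin 4) (Fin 4) K) - 1) ^ p = 0 := by
        obtain ⟨k, rfl⟩ := Nat.exists_eq_add_of_le (show 2 ≤ p by omega)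
        rw [pow_add, hg2, zero_mul]
      have : CharP (Matrix (Fin 4) (Fin 4) K) p := inferInstance
      rw [sub_pow_char_of_commute p (Commute.one_right (g : Matrix (Fin 4) (Fin 4) K)), one_pow, sub_eq_zero] at h5
      rw [Units.val_pow_eq_pow_val, h5, Units.val_one]
    have hpg : IsPGroup p (Subgroup.zpowers (⟨g, hg⟩ : L)) := by
      rintro ⟨y, hy⟩
      obtain ⟨k, rfl⟩ := Subgroup.mem_zpowers_iff.1 hy
      refine ⟨1, Subtype.ext (Subtype.ext ?_)⟩
      show ((g : GL (Fin 4) K) ^ k) ^ p ^ 1 = 1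
      rw [pow_one, ← _root_.zpow_natCast, ← _root_.zpow_mul, mul_comm, _root_.zpow_mul, _root_.zpow_natCast, hgp,
        _root_.one_zpow]
    obtain ⟨Q, hQ⟩ := hpg.exists_le_sylow
    obtain ⟨c, hc⟩ := MulAction.exists_smul_eq L Q P
    have h5 : c * ⟨g, hg⟩ * c⁻¹ ∈ (P : Subgroup L) := by
      rw [← hc]
      have h7 := Subgroup.smul_mem_pointwise_smul (⟨g, hg⟩ : L) (MulAut.conj c) (Q : Subgroup L)
        (hQ (Subgroup.mem_zpowers _))
      exact h7
    obtain ⟨t, ht⟩ := (hP _).1 h5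
    have h7 : (((c * ⟨g, hg⟩ * c⁻¹ : L) : GL (Fin 4) K) : Matrix (Fin 4) (Fin 4) K) =
        ((c : GL (Fin 4) K) : Matrix (Fin 4) (Fin 4) K) * (g : Matrix (Fin 4) (Fin 4) K) *
          (((c : GL (Fin 4) K)⁻¹ : GL (Fin 4) K) : Matrix (Fin 4) (Fin 4) K) := rfl
    have h8 : ((c : GL (Fin 4) K) : Matrix (Fin 4) (Fin 4) K) *
        (((c : GL (Fin 4) K)⁻¹ : GL (Fin 4) K) : Matrix (Fin 4) (Fin 4) K) = 1 := by
      rw [← Units.val_mul, mul_inv_cancel, Units.val_one]
    have h9 : (((c : GL (Fin 4) K)⁻¹ : GL (Fin 4) K) : Matrix (Fin 4) (Fin 4) K) *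
        ((c : GL (Fin 4) K) : Matrix (Fin 4) (Fin 4) K) = 1 := by
      rw [← Units.val_mul, inv_mul_cancel, Units.val_one]
    have h10 : (Xm t - 1) ^ 2 = (0 : Matrix (Fin 4) (Fin 4) K) := by
      rw [← ht, h7]
      set C := ((c : GL (Fin 4) K) : Matrix (Fin 4) (Fin 4) K)
      set C' := (((c : GL (Fin 4) K)⁻¹ : GL (Fin 4) K) : Matrix (Fin 4) (Fin 4) K)
      have e1 : C * (g : Matrix (Fin 4) (Fin 4) K) * C' - 1 = C * ((g : Matrix (Fin 4) (Fin 4) K) - 1) * C' := by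
        rw [Matrix.mul_sub, Matrix.sub_mul, Matrix.mul_one, h8]
      rw [e1, sq]
      calc C * ((g : Matrix (Fin 4) (Fin 4) K) - 1) * C' * (C * ((g : Matrix (Fin 4) (Fin 4) K) - 1) * C')
          = C * ((g : Matrix (Fin 4) (Fin 4) K) - 1) * (C' * C) * ((g : Matrix (Fin 4) (Fin 4) K) - 1) * C' := by
            simp only [Matrix.mul_assoc]
        _ = C * (((g : Matrix (Fin 4) (Fin 4) K) - 1) ^ 2) * C' := by
            rw [h9, Matrix.mul_one, sq, Matrix.mul_assoc C]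
        _ = 0 := by rw [hg2, Matrix.mul_zero, Matrix.zero_mul]
    have h11 := congrFun (congrFun h10 2) 0
    rw [Xm_sq] at h11
    simp [h2] at h11
    subst h11
    rw [Xm_zero] at ht
    have h12 : (c * ⟨g, hg⟩ * c⁻¹ : L) = 1 := Subtype.ext (Units.ext ht)
    have h13 : (⟨g, hg⟩ : L) = 1 := by
      have : (⟨g, hg⟩ : L) = c⁻¹ * (c * ⟨g, hg⟩ * c⁻¹) * c := by group
      rw [this, h12]
      group
    apply hτ1
    rw [show g = 1 from congrArg Subtype.val h13, map_one]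
  -- the maximal overgroup
  obtain ⟨H, hH, hHL, hHS⟩ := hres hp hcard f.range hle hne (fc h3 x) ((hmem _).2 ⟨x, hxL, rfl⟩)
    (by rw [← map_pow, hxp, map_one])
    (by rw [fc_sub_pow, hx1, Xm_four, Matrix.mul_zero, Matrix.zero_mul])
    (by
      intro h
      rw [fc_sub_pow, hx1] at h
      have h5 := congrFun (congrFun (Cm_eq_zero h3 h) 3) 0
      rw [Xm_cube] at h5
      simp [h6] at h5)
    (by
      intro W hW
      have h5 := irr h2 h3 L hL hxL hx1 h1 h4 (W.comap (Matrix.mulVecLin (Cm K))) (by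
        intro g hg v hv
        have h6 := hW (fc h3 g) ((hmem _).2 ⟨g, hg, rfl⟩) _ hv
        show Cm K *ᵥ _ ∈ W
        rw [← fc_mulVec h3]
        exact h6)
      rcases h5 with h5 | h5
      · left
        rw [eq_bot_iff]
        intro w hw
        obtain ⟨v, rfl⟩ := exists_Cm h3 w
        have h6 : v ∈ W.comap (Matrix.mulVecLin (Cm K)) := hw
        rw [h5, Submodule.mem_bot] at h6
        rw [h6, Matrix.mulVec_zero]
        exact Submodule.zero_mem _
      · right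
        rw [eq_top_iff]
        intro w _
        obtain ⟨v, rfl⟩ := exists_Cm h3 w
        have h6 : v ∈ W.comap (Matrix.mulVecLin (Cm K)) := h5 ▸ Submodule.mem_top
        exact h6)
  have hpL : p ∣ Nat.card L := by
    have h5 : orderOf (⟨x, hxL⟩ : L) = p := by
      refine orderOf_eq_prime (Subtype.ext hxp) ?_
      intro h
      exact hxne (congrArg Subtype.val h)
    rw [← h5]
    exact orderOf_dvd_natCard _
  exact hcon hp hcard H hH hHS f hf hHL hpL P hn

end Cfsg.Agent.H103.GT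

private theorem dce_f031d2d3b472 : _root_.True := by
  try have : _root_.True := by simp only [_root_.Cfsg.Agent.H103.GT.Cm.eq_3]
  try have : _root_.True := by simp only [_root_.Cfsg.Agent.H103.GT.Cm'.eq_4]
  try have : _root_.True := by simp only [_root_.Cfsg.Agent.H103.GT.Cm'.eq_1]
  try have : _root_.True := by simp only [_root_.Cfsg.Agent.H103.GT.Cm'.eq_2]
  try have : _root_.True := by simp only [_root_.Cfsg.Agent.H779.G2.Om.eq_1]
  try have : _root_.True := by simp only [_root_.Cfsg.Agent.H103.GT.Cm'.eq_3]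
  try have : _root_.True := by simp only [_root_.Cfsg.Agent.H103.GT.Cm.eq_1]
  try have : _root_.True := by simp only [_root_.Cfsg.Agent.H103.GT.Cm.eq_2]
  try have : _root_.True := by simp only [_root_.Cfsg.Agent.H779.G2.Xm.eq_1]
  try have : _root_.True := by simp only [_root_.Cfsg.Agent.H103.GT.fc.congr_simp]
  try have : _root_.True := by simp only [_root_.Cfsg.Agent.H103.GT.Cm.eq_4]
  exact _root_.True.intro
end

-- part: H949/GT/RankOne
section
set_option linter.all false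
open scoped Cfsg.Agent.FastGrp

/-!
# S5211, the short root parabolic (helper949): the rank one property, `q = p ≥ 11`, and the final theorem
-/

set_option autoImplicit false

namespace Cfsg.Agent.H949.GT

open Cfsg Cfsg.FusionSystem Cfsg.Agent.H756.PU Cfsg.Agent.H779.G2 Cfsg.Agent.H103.GT Cfsg.Agent.H802 Matrix

universe u

/-- not `Cfsg.GU` -/
local notation "GU" => Cfsg.Agent.H779.G2.GU

variable {K : Type u} [Field K] {p n : ℕ} {Γ : Subgroup (MulAut (Qa K))} {D : Subgroup (MulAut (GU K))}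

/-- Frattini -/
theorem frattini_fac {G : Type*} [Group G] [Finite G] {p : ℕ} [Fact p.Prime] (A : Subgroup G)
    (hA : ∀ g : G, ∀ x ∈ A, g * x * g⁻¹ ∈ A) (T : Sylow p G) (hTA : (T : Subgroup G) ≤ A) (g : G) :
    ∃ a ∈ A, ∃ n ∈ Subgroup.normalizer ((T : Subgroup G) : Set G), g = a * n := by
  have hsm : ((g • T : Sylow p G) : Subgroup G) = (T : Subgroup G).map (MulAut.conj g).toMonoidHom := by
    rw [Sylow.coe_subgroup_smul]
    rfl
  have h2 : ((g • T : Sylow p G) : Subgroup G) ≤ A := by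
    rw [hsm]
    rintro _ ⟨x, hx, rfl⟩
    exact hA g x (hTA hx)
  obtain ⟨b, hb, hT⟩ := EvenType.StrongP.sylow_conj_in (Y := A) T (g • T) hTA h2
  refine ⟨b, hb, b⁻¹ * g, ?_, by group⟩
  rw [EvenType.StrongP.mem_norm, EvenType.StrongP.map_conj_mul, ← hsm, ← hT, ← EvenType.StrongP.map_conj_mul,
    inv_mul_cancel, EvenType.StrongP.map_conj_one]

/-- `γ` preserves `Z₃` -/
def PZ3 (γ : MulAut (Qa K)) : Prop := ∀ e : Qa K, (e : GU K) ∈ Z3 K → ((γ e : Qa K) : GU K) ∈ Z3 K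

theorem PZ3.mul {γ γ' : MulAut (Qa K)} (h : PZ3 γ) (h' : PZ3 γ') : PZ3 (γ * γ') := fun e he => h _ (h' e he)

theorem PZ3.of_acts {γ : MulAut (Qa K)} {M : Matrix (Fin 4) (Fin 4) K} {τ : K ≃+* K} {m : K} (h : Acts γ M τ m)
    (hM : ∀ i j : Fin 4, (i : ℕ) < 2 → 2 ≤ (j : ℕ) → M i j = 0) : PZ3 γ := by
  rintro e ⟨h1, h2, h3⟩
  have hco : ∀ i : Fin 4, (i : ℕ) < 2 → co ((γ e : Qa K) : GU K) i = 0 := by
    intro i hi
    rw [h.V, Matrix.mulVec, dotProduct, Fin.sum_univ_four, hM i 2 hi (by decide), hM i 3 hi (by decide)]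
    simp [co, h2, h3]
  exact ⟨(γ e).2, hco 0 (by decide), hco 1 (by decide)⟩

theorem PZ3_norm (hK : HypG K p n) (h3 : p ≠ 3) (hP : Par p (Qa K) Γ D) {γ : Γ}
    (hγ : γ ∈ Subgroup.normalizer ((TG Γ : Subgroup Γ) : Set Γ)) : PZ3 γ.1 := by
  obtain ⟨c, hc, δ, hδ, rfl⟩ := norm_dec hP hK hγ
  obtain ⟨a, ha⟩ := acts_TG hc
  obtain ⟨d, -, s, t, τ, -, -, h⟩ := acts_DG hK h3 hP hδ
  refine PZ3.mul (γ := c.1) (γ' := δ.1) (PZ3.of_acts ha ?_) (PZ3.of_acts h ?_)
  · intro i j hi hj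
    fin_cases i <;> fin_cases j
    all_goals first
      | rfl
      | exact absurd hi (by decide)
      | exact absurd hj (by decide)
  · intro i j hi hj
    refine Matrix.diagonal_apply_ne _ ?_
    rintro rfl
    omega

theorem R1_eq1 (hU : StU2PW.{u}) (hK : HypG K p 1) (h11 : 11 ≤ p) (hP : Par p (Qa K) Γ D)
    (hact : ∀ γ ∈ Γ, ∃ M τ m, m ≠ 0 ∧ Acts γ M τ m) (hZ2 : ¬ Inv Γ (Z2 K)) (hZ3 : ¬ Inv Γ (Z3 K)) : R1 (TG Γ) := by
  have hfin := hK.fin
  have hfp : Fact p.Prime := ⟨hK.pp⟩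
  have h3 : p ≠ 3 := by omega
  obtain ⟨T, hT⟩ := exists_sylowP hK hP
  have hT' : (T : Subgroup Γ) = TG Γ := hT
  have hTA : (T : Subgroup Γ) ≤ G0 Γ := by
    rw [hT']
    exact TG_le_G0
  have hA : ∀ g : Γ, ∀ x ∈ G0 Γ, g * x * g⁻¹ ∈ G0 Γ := fun g x hx => G0_conj hact g hx
  obtain ⟨r, hr⟩ : ∃ r : G0 Γ →* (lin Γ).range, r = (lin Γ).rangeRestrict := ⟨_, rfl⟩
  have hrs : Function.Surjective r := by
    rw [hr]
    exact MonoidHom.rangeRestrict_surjective _
  have hrc : ∀ x, ((r x : (lin Γ).range) : GL (Fin 4) K) = lin Γ x := fun x => by rw [hr]; rfl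
  have hrk : r.ker = (K0 Γ).subgroupOf (G0 Γ) := by
    rw [hr, MonoidHom.ker_rangeRestrict, lin_ker]
  obtain ⟨P, hPdef⟩ : ∃ P : Sylow p (lin Γ).range, P = (T.subtype hTA).mapSurjective hrs := ⟨_, rfl⟩
  have hPc : (P : Subgroup (lin Γ).range) = ((TG Γ).subgroupOf (G0 Γ)).map r := by
    rw [hPdef, Sylow.coe_mapSurjective, Sylow.coe_subtype, hT']
  have hcom : (P : Subgroup (lin Γ).range).comap r = (TG Γ).subgroupOf (G0 Γ) := by
    rw [hPc, Subgroup.comap_map_eq, hrk, sup_eq_left]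
    exact Subgroup.comap_mono (K0_le hK hP hact)
  have hmem : ∀ g : (lin Γ).range, g ∈ (P : Subgroup (lin Γ).range) ↔
      ∃ t : K, ((g : GL (Fin 4) K) : Matrix (Fin 4) (Fin 4) K) = Xm t := by
    intro g
    constructor
    · intro hg
      rw [hPc] at hg
      obtain ⟨c, hc, rfl⟩ := hg
      obtain ⟨a, ha⟩ := acts_TG (Γ := Γ) (c := c.1) hc
      refine ⟨a, ?_⟩
      rw [hrc]
      exact (lin_acts c).uniq_lin ha
    · rintro ⟨t, ht⟩
      have h1 : cN hP ⟨t, 0, 0, 0, 0, 0⟩ ∈ TG Γ := (mem_TG' hP).2 ⟨_, rfl⟩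
      have h2 : g = r ⟨cN hP ⟨t, 0, 0, 0, 0, 0⟩, TG_le_G0 h1⟩ := by
        apply Subtype.ext
        apply Units.ext
        rw [hrc, ht]
        exact (acts_conj (cN_isC hP ⟨t, 0, 0, 0, 0, 0⟩)).uniq_lin
          (lin_acts (⟨cN hP ⟨t, 0, 0, 0, 0, 0⟩, TG_le_G0 h1⟩ : G0 Γ))
      rw [hPc, h2]
      exact ⟨_, h1, rfl⟩
  have hfinL : Finite (lin Γ).range := inferInstance
  have hcardP : Nat.card (P : Subgroup (lin Γ).range) ≤ p := by
    have h1 : ∀ g : (P : Subgroup (lin Γ).range), ∃ t : K, (((g : (lin Γ).range) : GL (Fin 4) K) :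
        Matrix (Fin 4) (Fin 4) K) = Xm t := fun g => (hmem g.1).1 g.2
    choose t ht using h1
    have h2 : Function.Injective t := by
      intro g g' h
      have h3 := (ht g).trans ((congrArg Xm h).trans (ht g').symm)
      exact Subtype.ext (Subtype.ext (Units.ext h3))
    have h4 := Nat.card_le_card_of_injective t h2
    rwa [hK.card, pow_one] at h4
  have key := hU hK h11 (lin Γ).range
    (by
      rintro _ ⟨γ, rfl⟩
      exact lin_form γ)
    (by
      intro hdvd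
      have h1 := P.pow_dvd_card_of_pow_dvd_card hdvd
      have h2 := Nat.le_of_dvd Nat.card_pos h1
      have h4 : p ^ 2 ≤ p := h2.trans hcardP
      nlinarith)
    P hmem
    (by
      intro hnor
      apply hP.nn
      intro γ hγ
      refine (normAut_iff hK hP ⟨γ, hγ⟩).2 ?_
      obtain ⟨a, ha, m, hm, h1⟩ := frattini_fac (G0 Γ) hA T hTA ⟨γ, hγ⟩
      rw [h1]
      rw [hT'] at hm
      refine Subgroup.mul_mem _ ?_ hm
      have h2 : ((TG Γ).subgroupOf (G0 Γ)).Normal := by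
        rw [← hcom]
        exact hnor.comap r
      rw [Subgroup.mem_normalizer_iff]
      intro x
      constructor
      · intro hx
        exact h2.conj_mem ⟨x, TG_le_G0 hx⟩ hx ⟨a, ha⟩
      · intro hx
        have h4 := h2.conj_mem ⟨a * x * a⁻¹, TG_le_G0 hx⟩ hx ⟨a⁻¹, (G0 Γ).inv_mem ha⟩
        have h5 : a⁻¹ * (a * x * a⁻¹) * a⁻¹⁻¹ ∈ TG Γ := h4
        have e : a⁻¹ * (a * x * a⁻¹) * a⁻¹⁻¹ = x := by group
        rwa [e] at h5)
    (by
      by_contra hcon
      push Not at hcon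
      apply hZ2
      refine ⟨Z2_le_Qa, fun γ hγ e he => ?_⟩
      suffices h : PZ γ from h e he
      obtain ⟨a, ha, m, hm, h1⟩ := frattini_fac (G0 Γ) hA T hTA ⟨γ, hγ⟩
      rw [hT'] at hm
      have h2 : γ = a.1 * m.1 := congrArg Subtype.val h1
      rw [h2]
      refine PZ.mul ?_ (PZ_norm hK h3 hP hm)
      exact PZ.of_acts (lin_acts ⟨a, ha⟩) fun i hi => hcon _ ⟨⟨a, ha⟩, rfl⟩ i hi)
    (by
      by_contra hcon
      push Not at hcon
      apply hZ3
      refine ⟨Z3_le_Qa, fun γ hγ e he => ?_⟩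
      suffices h : PZ3 γ from h e he
      obtain ⟨a, ha, m, hm, h1⟩ := frattini_fac (G0 Γ) hA T hTA ⟨γ, hγ⟩
      rw [hT'] at hm
      have h2 : γ = a.1 * m.1 := congrArg Subtype.val h1
      rw [h2]
      refine PZ3.mul ?_ (PZ3_norm hK h3 hP hm)
      exact PZ3.of_acts (lin_acts ⟨a, ha⟩) fun i j hi hj => hcon _ ⟨⟨a, ha⟩, rfl⟩ i j hi hj)
  have h1 := R1.of_sylow P key.1 key.2
  have h2 := h1.comap r hrs
  rw [hcom, ← hT'] at h2
  have h4 := R1.extend (G0 Γ) hA T hTA h2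
  rwa [hT'] at h4

/-- **the short root parabolic, `p ≥ 5`** -/
theorem stLa5 (hAlg : StWAlg.{u}) (hWF : StWFin1.{u}) (hSem : StSem.{u}) (hTI : StTI.{u}) (hU2 : StU2W.{u})
    (hU2P : StU2PW.{u}) : StLaP.{u} (fun p _ => 5 ≤ p) := by
  intro K _ p n hK h5 hq Γ D hP hTor hZ2 hZ3
  have h5' : 5 ≤ p := h5
  have h3 : p ≠ 3 := by omega
  have hact : ∀ γ ∈ Γ, ∃ M τ m, m ≠ 0 ∧ Acts γ M τ m := fun γ _ => exists_acts hSem hK h3 γ
  have hTIΓ := (hTI hK (by omega) (Qa K) (Or.inl rfl)).1 Γ hP.indu hP.syl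
  have hR : R1 (TG Γ) := by
    rcases Nat.lt_or_ge n 2 with hn | hn
    · have hn1 : n = 1 := by
        have := hK.hn
        omega
      subst hn1
      rw [pow_one] at hq
      have h11 : 11 ≤ p := by
        by_contra hlt
        have hpp := hK.pp
        interval_cases p
        · exact absurd hpp (by decide)
        · exact absurd hpp (by decide)
        · exact absurd hpp (by decide)
      exact R1_eq1 hU2P hK h11 hP hact hZ2 hZ3
    · exact R1_ge2 hU2 hK h5' hn hP hTIΓ hact hTor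
  exact la_of_R1 hAlg hWF hSem hTI hK h3 hq hP hR hTor hZ2

end Cfsg.Agent.H949.GT
end

-- part: H913/Q5/RowB
section
set_option linter.all false
open scoped Cfsg.Agent.FastGrp

/-!
# S5211, block q = 5: the row of the Baby Monster, from the row of `HN` and an element of order 3
-/

set_option autoImplicit false

namespace Cfsg.Agent.H913.Q5

open Cfsg Cfsg.Agent.H24.Q5 Cfsg.Agent.H779.G2

/-- **Row `B`** -/
theorem stRowB_of
    (hHN : ∃ (T : Sylow 5 Cfsg.Spor.HN) (e : (T : Subgroup Cfsg.Spor.HN) ≃* U5), Loc Cfsg.Spor.HN T e ∧ 128 ∣ autN T e)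
    (hB : ∃ (v a b c d w : Cfsg.Spor.BabyMonster) (κ l : ℤ) (E : Ext5 v a b c d κ l), w ^ 3 = 1 ∧
      w * a * w⁻¹ ∈ E.grp ∧ w * b * w⁻¹ ∈ E.grp ∧ w * c * w⁻¹ ∈ E.grp ∧ w * d * w⁻¹ ∈ E.grp ∧
      w * v * w⁻¹ ∈ E.grp ∧ w * a ≠ a * w) : StRowB := by
  obtain ⟨T, e, hloc, h128⟩ := hHN
  obtain ⟨v, a, b, c, d, w, κ, l, E, w3, ha, hb, hc, hd, hv, hne⟩ := hB
  obtain ⟨j, hj⟩ := H792.SpBFive.exists_hom
  have hcard : Nat.card Cfsg.Spor.BabyMonster = 4154781481226426191177580544000000 := BM.KHAll.card_B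
  have hfin : Finite Cfsg.Spor.BabyMonster := Nat.finite_of_card_ne_zero (by rw [hcard]; norm_num)
  obtain ⟨T', e', -, -, hloc', -, hdvd⟩ := loc_push j hj (by rw [hcard]; norm_num) hloc
  refine ⟨Cfsg.Spor.BabyMonster, inferInstance, hfin, T', e', hloc', ?_, h128.trans hdvd⟩
  exact (E.three_dvd hfin w3 ha hb hc hd hv hne).trans
    (relIndex_dvd_autN E.card_grp E.v5 E.v_mem (fun x hx y hy => E.comm hx hy))

end Cfsg.Agent.H913.Q5
end

-- part: H758/GT/Cls
section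
prune_inst 0x10006504240000000000000220001c22b2000000000b0000600000000d810c0000002e20822000021820008400300028130000804200000000000000000100800000000081480000000000000000000000000000000000000000000000000000000000000
set_option linter.all false
open scoped Cfsg.Agent.FastGrp

/-!
# S5211, StU2P: the geometric maximal subgroups of `Sp₄(p)` contain no regular unipotent element irreducibly
-/

set_option autoImplicit false

namespace Cfsg.Agent.H758.GT

open scoped MatrixGroups Matrix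
open Cfsg Cfsg.Geo

universe u

section nil

variable {ι : Type} [Fintype ι] [DecidableEq ι] {F : Type u} [Field F]

/-- four dimensional regular nilpotent matrices -/
theorem exists_cyc {N : Matrix ι ι F} (h : N ^ 3 ≠ 0) : ∃ v : ι → F, N ^ 3 *ᵥ v ≠ 0 := by
  by_contra hc
  push Not at hc
  apply h
  ext i j
  have := congrFun (hc (Pi.single j 1)) i
  simpa using this

theorem mulVec_pow_succ (N : Matrix ι ι F) (k : ℕ) (v : ι → F) : N *ᵥ (N ^ k *ᵥ v) = N ^ (k + 1) *ᵥ v := by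
  rw [Matrix.mulVec_mulVec, pow_succ']

theorem mulVec_pow_pow (N : Matrix ι ι F) (j k : ℕ) (v : ι → F) : N ^ j *ᵥ (N ^ k *ᵥ v) = N ^ (j + k) *ᵥ v := by
  rw [Matrix.mulVec_mulVec, pow_add]

theorem basis4 (hι : Fintype.card ι = 4) {N : Matrix ι ι F} (h4 : N ^ 4 = 0) {v : ι → F} (hv : N ^ 3 *ᵥ v ≠ 0)
    (w : ι → F) : ∃ a b c d : F, w = a • v + b • (N *ᵥ v) + c • (N ^ 2 *ᵥ v) + d • (N ^ 3 *ᵥ v) := by
  classical
  have h0 : ∀ k : ℕ, 4 ≤ k → N ^ k *ᵥ v = 0 := by
    intro k hk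
    obtain ⟨m, rfl⟩ := Nat.exists_eq_add_of_le hk
    rw [pow_add, h4, zero_mul, Matrix.zero_mulVec]
  set e : Fin 4 → (ι → F) := ![v, N *ᵥ v, N ^ 2 *ᵥ v, N ^ 3 *ᵥ v] with he
  have hli : LinearIndependent F e := by
    rw [Fintype.linearIndependent_iff]
    intro g hg
    rw [Fin.sum_univ_four] at hg
    simp only [he, Matrix.cons_val_zero, Matrix.cons_val_one, Matrix.cons_val] at hg
    have e1 : N *ᵥ v = N ^ 1 *ᵥ v := by rw [pow_one]
    have key : ∀ j : ℕ, g 0 • (N ^ j *ᵥ v) + g 1 • (N ^ (j + 1) *ᵥ v) + g 2 • (N ^ (j + 2) *ᵥ v)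
        + g 3 • (N ^ (j + 3) *ᵥ v) = 0 := by
      intro j
      have := congrArg (fun z => N ^ j *ᵥ z) hg
      simp only [Matrix.mulVec_add, Matrix.mulVec_smul, Matrix.mulVec_zero, e1, mulVec_pow_pow] at this
      exact this
    have g0 : g 0 = 0 := by
      have := key 3
      rw [h0 (3 + 1) (by omega), h0 (3 + 2) (by omega), h0 (3 + 3) (by omega)] at this
      simpa [hv] using this
    have g1 : g 1 = 0 := by
      have := key 2
      rw [g0, h0 (2 + 2) (by omega), h0 (2 + 3) (by omega)] at this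
      simpa [hv] using this
    have g2 : g 2 = 0 := by
      have := key 1
      rw [g0, g1, h0 (1 + 3) (by omega)] at this
      simpa [hv] using this
    have g3 : g 3 = 0 := by
      have := key 0
      rw [g0, g1, g2] at this
      simpa [hv] using this
    intro i
    fin_cases i <;> assumption
  have hcard : Fintype.card (Fin 4) = Module.finrank F (ι → F) := by
    rw [Module.finrank_fintype_fun_eq_card, hι, Fintype.card_fin]
  have hspan := hli.span_eq_top_of_card_eq_finrank hcard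
  have hw : w ∈ Submodule.span F (Set.range e) := by rw [hspan]; trivial
  rw [Submodule.mem_span_range_iff_exists_fun] at hw
  obtain ⟨c, hc⟩ := hw
  refine ⟨c 0, c 1, c 2, c 3, ?_⟩
  rw [← hc, Fin.sum_univ_four]
  simp [he]

theorem pow_one_comb {N : Matrix ι ι F} (h4 : N ^ 4 = 0) (v : ι → F) (a b c d : F) :
    N *ᵥ (a • v + b • (N *ᵥ v) + c • (N ^ 2 *ᵥ v) + d • (N ^ 3 *ᵥ v)) =
      a • (N *ᵥ v) + b • (N ^ 2 *ᵥ v) + c • (N ^ 3 *ᵥ v) := by
  simp only [Matrix.mulVec_add, Matrix.mulVec_smul, mulVec_pow_succ]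
  rw [show N *ᵥ (N *ᵥ v) = N ^ 2 *ᵥ v by rw [Matrix.mulVec_mulVec, pow_two], h4, Matrix.zero_mulVec, smul_zero,
    add_zero]

theorem pow_two_comb {N : Matrix ι ι F} (h4 : N ^ 4 = 0) (v : ι → F) (a b c d : F) :
    N ^ 2 *ᵥ (a • v + b • (N *ᵥ v) + c • (N ^ 2 *ᵥ v) + d • (N ^ 3 *ᵥ v)) =
      a • (N ^ 2 *ᵥ v) + b • (N ^ 3 *ᵥ v) := by
  rw [pow_two N, ← Matrix.mulVec_mulVec, ← pow_two, pow_one_comb h4]
  have := pow_one_comb h4 v 0 a b c
  rw [zero_smul, zero_add, zero_smul, zero_add] at this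
  exact this

theorem pow_three_comb {N : Matrix ι ι F} (h4 : N ^ 4 = 0) (v : ι → F) (a b c d : F) :
    N ^ 3 *ᵥ (a • v + b • (N *ᵥ v) + c • (N ^ 2 *ᵥ v) + d • (N ^ 3 *ᵥ v)) = a • (N ^ 3 *ᵥ v) := by
  have := pow_one_comb h4 v 0 0 a b
  rw [zero_smul, zero_add, zero_smul, zero_add, zero_smul, zero_add] at this
  rw [← mulVec_pow_succ N 2 (a • v + b • (N *ᵥ v) + c • (N ^ 2 *ᵥ v) + d • (N ^ 3 *ᵥ v)), pow_two_comb h4, this,
    zero_add]

theorem ker3 (hι : Fintype.card ι = 4) {N : Matrix ι ι F} (h4 : N ^ 4 = 0) {v : ι → F} (hv : N ^ 3 *ᵥ v ≠ 0)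
    {w : ι → F} (hw : N ^ 3 *ᵥ w = 0) :
    ∃ b c d : F, w = b • (N *ᵥ v) + c • (N ^ 2 *ᵥ v) + d • (N ^ 3 *ᵥ v) := by
  obtain ⟨a, b, c, d, rfl⟩ := basis4 hι h4 hv w
  rw [pow_three_comb h4, smul_eq_zero, or_iff_left hv] at hw
  subst hw
  exact ⟨b, c, d, by rw [zero_smul, zero_add]⟩

theorem ker2 (hι : Fintype.card ι = 4) {N : Matrix ι ι F} (h4 : N ^ 4 = 0) {v : ι → F} (hv : N ^ 3 *ᵥ v ≠ 0)
    {w : ι → F} (hw : N ^ 2 *ᵥ w = 0) : ∃ c d : F, w = c • (N ^ 2 *ᵥ v) + d • (N ^ 3 *ᵥ v) := by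
  have hw3 : N ^ 3 *ᵥ w = 0 := by rw [pow_succ' N 2, ← Matrix.mulVec_mulVec, hw, Matrix.mulVec_zero]
  obtain ⟨b, c, d, rfl⟩ := ker3 hι h4 hv hw3
  have h := pow_two_comb h4 v 0 b c d
  rw [zero_smul, zero_add, zero_smul, zero_add, hw, eq_comm, smul_eq_zero, or_iff_left hv] at h
  subst h
  exact ⟨c, d, by rw [zero_smul, zero_add]⟩

theorem ker1 (hι : Fintype.card ι = 4) {N : Matrix ι ι F} (h4 : N ^ 4 = 0) {v : ι → F} (hv : N ^ 3 *ᵥ v ≠ 0)
    {w : ι → F} (hw : N *ᵥ w = 0) : ∃ d : F, w = d • (N ^ 3 *ᵥ v) := by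
  have hw2 : N ^ 2 *ᵥ w = 0 := by rw [pow_succ' N 1, ← Matrix.mulVec_mulVec, pow_one, hw, Matrix.mulVec_zero]
  obtain ⟨c, d, rfl⟩ := ker2 hι h4 hv hw2
  have h := pow_one_comb h4 v 0 0 c d
  rw [zero_smul, zero_add, zero_smul, zero_add, zero_smul, zero_add, hw, zero_add, eq_comm, smul_eq_zero,
    or_iff_left hv] at h
  subst h
  exact ⟨d, by rw [zero_smul, zero_add]⟩

/-- an invariant nonzero subspace contains the socle vector -/
theorem socle_mem (hι : Fintype.card ι = 4) {N : Matrix ι ι F} (h4 : N ^ 4 = 0) {v : ι → F} (hv : N ^ 3 *ᵥ v ≠ 0)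
    {W : Submodule F (ι → F)} (hW : ∀ w ∈ W, N *ᵥ w ∈ W) (h0 : W ≠ ⊥) : N ^ 3 *ᵥ v ∈ W := by
  obtain ⟨w, hw, hw0⟩ := W.exists_mem_ne_zero_of_ne_bot h0
  obtain ⟨a, b, c, d, rfl⟩ := basis4 hι h4 hv w
  have hmem : ∀ r : F, r ≠ 0 → r • (N ^ 3 *ᵥ v) ∈ W → N ^ 3 *ᵥ v ∈ W := by
    intro r hr h
    have := W.smul_mem r⁻¹ h
    rwa [smul_smul, inv_mul_cancel₀ hr, one_smul] at this
  by_cases ha : a = 0
  · subst ha
    by_cases hb : b = 0
    · subst hb
      by_cases hc : c = 0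
      · subst hc
        rw [zero_smul, zero_smul, zero_smul, zero_add, zero_add, zero_add] at hw hw0
        refine hmem d ?_ hw
        rintro rfl
        exact hw0 (zero_smul _ _)
      · have h1 := hW _ hw
        rw [pow_one_comb h4, zero_smul, zero_smul, zero_add, zero_add] at h1
        exact hmem c hc h1
    · have h1 := hW _ (hW _ hw)
      rw [Matrix.mulVec_mulVec, ← pow_two, pow_two_comb h4, zero_smul, zero_add] at h1
      exact hmem b hb h1
  · have h1 := hW _ (hW _ (hW _ hw))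
    rw [Matrix.mulVec_mulVec, Matrix.mulVec_mulVec, ← pow_three', pow_three_comb h4] at h1
    exact hmem a ha h1

/-- a matrix commuting with a regular nilpotent one is congruent to a scalar on the socle -/
theorem comm_socle (hι : Fintype.card ι = 4) {N : Matrix ι ι F} (h4 : N ^ 4 = 0) {v : ι → F}
    (hv : N ^ 3 *ᵥ v ≠ 0) {k : Matrix ι ι F} (hk : k * N = N * k) :
    ∃ c : F, (k - c • (1 : Matrix ι ι F)) *ᵥ (N ^ 3 *ᵥ v) = 0 := by
  have h1 : N *ᵥ (k *ᵥ (N ^ 3 *ᵥ v)) = 0 := by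
    rw [Matrix.mulVec_mulVec, ← hk, ← Matrix.mulVec_mulVec, mulVec_pow_succ, h4, Matrix.zero_mulVec,
      Matrix.mulVec_zero]
  obtain ⟨c, hc⟩ := ker1 hι h4 hv h1
  refine ⟨c, ?_⟩
  rw [Matrix.sub_mulVec, hc, Matrix.smul_mulVec, Matrix.one_mulVec, sub_self]

end nil

/-- `x` is a regular unipotent element of order `p` -/
structure RegUni {ι : Type} [Fintype ι] [DecidableEq ι] {F : Type u} [Field F] (p : ℕ) (x : GL ι F) : Prop where
  pow : x ^ p = 1
  nil : ((x : Matrix ι ι F) - 1) ^ 4 = 0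
  ne : ((x : Matrix ι ι F) - 1) ^ 3 ≠ 0

section ext

variable {ι : Type} [Fintype ι] [DecidableEq ι] {F : Type u} [Field F]

/-- the normalizer of a field of degree two contains no regular unipotent element -/
theorem not_mem_subalgebraNormalizer (hι : Fintype.card ι = 4) [Fintype F] {p : ℕ} (hp : p.Prime) (hp3 : 3 ≤ p)
    (hF : Fintype.card F = p) {x : GL ι F} (hx : RegUni p x) {K : Subalgebra F (Matrix ι ι F)}
    (hK : IsFieldSubalgebra 2 K) : x ∉ subalgebraNormalizer K := by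
  intro hxK
  have : Nonempty ι := Fintype.card_pos_iff.mp (by omega)
  obtain ⟨v, hv⟩ := exists_cyc hx.ne
  -- a non-scalar element
  have hex : ∃ k ∈ K, ∀ c : F, k ≠ c • (1 : Matrix ι ι F) := by
    by_contra hcon
    push Not at hcon
    have hle : Subalgebra.toSubmodule K ≤ Submodule.span F {(1 : Matrix ι ι F)} := by
      intro k hk
      obtain ⟨c, hc⟩ := hcon k hk
      rw [hc]
      exact Submodule.smul_mem _ _ (Submodule.mem_span_singleton_self _)
    have h1 := Submodule.finrank_mono hle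
    have h2 : Module.finrank F (Submodule.span F {(1 : Matrix ι ι F)}) ≤ 1 := finrank_span_le_card _ |>.trans (by simp)
    have h3 : Module.finrank F (Subalgebra.toSubmodule K) = 2 := hK.finrank_eq
    omega
  obtain ⟨k, hk, hkc⟩ := hex
  -- every element of `K` is a combination of `1` and `k`
  have hspan : ∀ y ∈ K, ∃ c u : F, y = c • (1 : Matrix ι ι F) + u • k := by
    have hli : LinearIndependent F ![(1 : Matrix ι ι F), k] := by
      rw [LinearIndependent.pair_iff]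
      intro s t h
      have ht : t = 0 := by
        by_contra ht
        apply hkc (-(t⁻¹ * s))
        have h1 : t • k = -(s • (1 : Matrix ι ι F)) := by
          rw [eq_neg_iff_add_eq_zero, add_comm]
          exact h
        calc k = t⁻¹ • (t • k) := by rw [smul_smul, inv_mul_cancel₀ ht, one_smul]
          _ = -(t⁻¹ * s) • (1 : Matrix ι ι F) := by rw [h1, smul_neg, smul_smul, neg_smul]
      refine ⟨?_, ht⟩
      rw [ht, zero_smul, add_zero, smul_eq_zero] at h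
      exact h.resolve_right one_ne_zero
    have hle : Submodule.span F (Set.range ![(1 : Matrix ι ι F), k]) ≤ Subalgebra.toSubmodule K := by
      rw [Submodule.span_le]
      rintro _ ⟨i, rfl⟩
      fin_cases i
      · exact K.one_mem
      · exact hk
    have heq : Submodule.span F (Set.range ![(1 : Matrix ι ι F), k]) = Subalgebra.toSubmodule K := by
      apply Submodule.eq_of_le_of_finrank_eq hle
      rw [finrank_span_eq_card hli, Fintype.card_fin]
      exact hK.finrank_eq.symm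
    intro y hy
    have hy' : y ∈ Submodule.span F (Set.range ![(1 : Matrix ι ι F), k]) := by rw [heq]; exact hy
    rw [Submodule.mem_span_range_iff_exists_fun] at hy'
    obtain ⟨c, hc⟩ := hy'
    refine ⟨c 0, c 1, ?_⟩
    rw [← hc, Fin.sum_univ_two]
    rfl
  -- `x` acts
  have hconj : ∀ y ∈ K, (x : Matrix ι ι F) * y * ((x⁻¹ : GL ι F) : Matrix ι ι F) ∈ K := fun y hy => (hxK y).mp hy
  obtain ⟨c, u, hcu⟩ := hspan _ (hconj k hk)
  have hiter : ∀ n : ℕ, ∃ c' : F, ((x ^ n : GL ι F) : Matrix ι ι F) * k * (((x ^ n)⁻¹ : GL ι F) : Matrix ι ι F) =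
      c' • (1 : Matrix ι ι F) + u ^ n • k := by
    intro n
    induction n with
    | zero => exact ⟨0, by simp⟩
    | succ n ih =>
      obtain ⟨c', hc'⟩ := ih
      refine ⟨c' + u ^ n * c, ?_⟩
      have e : ((x ^ (n + 1) : GL ι F) : Matrix ι ι F) * k * (((x ^ (n + 1))⁻¹ : GL ι F) : Matrix ι ι F) =
          (x : Matrix ι ι F) * (((x ^ n : GL ι F) : Matrix ι ι F) * k * (((x ^ n)⁻¹ : GL ι F) : Matrix ι ι F)) *
            ((x⁻¹ : GL ι F) : Matrix ι ι F) := by
        rw [pow_succ' x n, mul_inv_rev, Units.val_mul, Units.val_mul]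
        simp only [mul_assoc]
      rw [e, hc', mul_add, add_mul, Matrix.mul_smul, Matrix.smul_mul, mul_one, ← Units.val_mul, mul_inv_cancel,
        Units.val_one, Matrix.mul_smul, Matrix.smul_mul, hcu, smul_add, smul_smul, smul_smul, ← add_assoc, ← add_smul,
        pow_succ]
  have hu : u = 1 := by
    obtain ⟨c', hc'⟩ := hiter p
    rw [hx.pow] at hc'
    have hup : u ^ p = u := by
      rw [← hF]
      exact FiniteField.pow_card u
    rw [hup] at hc'
    by_contra hu1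
    have h1u : (1 : F) - u ≠ 0 := sub_ne_zero.mpr (Ne.symm hu1)
    apply hkc ((1 - u)⁻¹ * c')
    have : (1 - u) • k = c' • (1 : Matrix ι ι F) := by
      rw [sub_smul, one_smul]
      simp only [Units.val_one, inv_one, one_mul, mul_one] at hc'
      rw [sub_eq_iff_eq_add]
      exact hc'
    rw [← smul_smul, ← this, smul_smul, inv_mul_cancel₀ h1u, one_smul]
  have hc : c = 0 := by
    have h1 := congrArg Matrix.trace hcu
    rw [Matrix.trace_mul_comm, ← mul_assoc, ← Units.val_mul, inv_mul_cancel, Units.val_one, one_mul, hu, one_smul,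
      Matrix.trace_add, Matrix.trace_smul, Matrix.trace_one, hι] at h1
    have h2 : c • ((4 : ℕ) : F) = 0 := by
      have := sub_eq_zero.mpr h1.symm
      simpa using this
    rw [smul_eq_mul, mul_eq_zero] at h2
    refine h2.resolve_right ?_
    intro h4
    have : Fact p.Prime := ⟨hp⟩
    have : CharP F p := charP_of_card_eq_prime hF
    rw [CharP.cast_eq_zero_iff F p] at h4
    have := Nat.le_of_dvd (by norm_num) h4
    interval_cases p
    · omega
    · exact absurd hp (by norm_num)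
  -- `k` commutes with `x - 1`
  have hcomm : k * ((x : Matrix ι ι F) - 1) = ((x : Matrix ι ι F) - 1) * k := by
    rw [hc, hu, zero_smul, zero_add, one_smul] at hcu
    have : (x : Matrix ι ι F) * k = k * (x : Matrix ι ι F) := by
      conv_rhs => rw [← hcu]
      rw [mul_assoc, ← Units.val_mul, inv_mul_cancel, Units.val_one, mul_one]
    rw [mul_sub, sub_mul, this, mul_one, one_mul]
  obtain ⟨a, ha⟩ := comm_socle hι hx.nil hv hcomm
  have hka : k - a • (1 : Matrix ι ι F) ∈ K := K.sub_mem hk (K.smul_mem K.one_mem a)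
  have hne : k - a • (1 : Matrix ι ι F) ≠ 0 := fun h => hkc a (sub_eq_zero.mp h)
  obtain ⟨y, hy, hy1⟩ := hK.inv _ hka hne
  rw [hK.comm _ hka _ hy] at hy1
  apply hv
  calc ((x : Matrix ι ι F) - 1) ^ 3 *ᵥ v = (y * (k - a • (1 : Matrix ι ι F))) *ᵥ (((x : Matrix ι ι F) - 1) ^ 3 *ᵥ v) := by
        rw [hy1, Matrix.one_mulVec]
    _ = 0 := by rw [← Matrix.mulVec_mulVec, ha, Matrix.mulVec_zero]

/-- the stabilizer of a decomposition into two subspaces contains no regular unipotent element -/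
theorem not_mem_decompositionStabilizer (hι : Fintype.card ι = 4) {p : ℕ} (hp : p.Prime) (hp3 : 3 ≤ p)
    {x : GL ι F} (hx : RegUni p x) {D : Fin 2 → Submodule F (ι → F)} (hD : IsMDecomposition 2 D) :
    x ∉ decompositionStabilizer D := by
  rintro ⟨σ, hσ⟩
  obtain ⟨v, hv⟩ := exists_cyc hx.ne
  have hpow : ∀ n : ℕ, ∀ i, (D i).map (Matrix.toLin' ((x ^ n : GL ι F) : Matrix ι ι F)) = D ((σ ^ n) i) := by
    intro n
    induction n with
    | zero => intro i; simp
    | succ n ih =>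
      intro i
      rw [pow_succ' x n, Units.val_mul, Matrix.toLin'_mul, Submodule.map_comp, ih, hσ, pow_succ' σ n,
        Equiv.Perm.mul_apply]
  have hodd : Odd p := hp.odd_of_ne_two (by omega)
  have hinj : Function.Injective D := by
    intro i j hij
    by_contra hne
    have h1 := (hD.indep.pairwiseDisjoint hne)
    rw [Function.onFun, hij, disjoint_self] at h1
    have h2 := hD.finrank_eq j
    rw [h1, finrank_bot] at h2
    omega
  have hσp : ∀ i, (σ ^ p) i = i := by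
    intro i
    apply hinj
    rw [← hpow p i, hx.pow, Units.val_one, Matrix.toLin'_one, Submodule.map_id]
  have hσ1 : σ = 1 := by
    have h2 : σ ^ 2 = 1 := by
      have h : ∀ τ : Equiv.Perm (Fin 2), τ ^ 2 = 1 := by decide
      exact h σ
    have hp' : σ ^ p = 1 := Equiv.ext hσp
    obtain ⟨m, hm⟩ := hodd
    rw [hm, pow_succ, pow_mul, h2, one_pow, one_mul] at hp'
    exact hp'
  have hmem : ∀ i, ((x : Matrix ι ι F) - 1) ^ 3 *ᵥ v ∈ D i := by
    intro i
    apply socle_mem hι hx.nil hv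
    · intro w hw
      rw [Matrix.sub_mulVec, Matrix.one_mulVec]
      refine (D i).sub_mem ?_ hw
      have h := hσ i
      rw [hσ1, Equiv.Perm.one_apply] at h
      rw [← h]
      exact ⟨w, hw, Matrix.toLin'_apply _ _⟩
    · intro h
      have h2 := hD.finrank_eq i
      rw [h, finrank_bot] at h2
      omega
  have hdis := hD.indep.pairwiseDisjoint (show (0 : Fin 2) ≠ 1 by decide)
  exact hv (Submodule.disjoint_def.mp hdis _ (hmem 0) (hmem 1))

/-- the normalizer of an absolutely irreducible group of order 32 with centre of order two contains no regular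
unipotent element of order `p ≥ 11` -/
theorem not_mem_subgroupNormalizer (hι : Fintype.card ι = 4) {p : ℕ} (hp : p.Prime) (hp3 : 11 ≤ p)
    {x : GL ι F} (hx : RegUni p x) {R : Subgroup (GL ι F)} (hR : ActsAbsolutelyIrreducibly (matrixSet R))
    (hc : Nat.card R = 32) (hz : Nat.card (Subgroup.center R) = 2) :
    x ∉ subgroupNormalizer R := by
  classical
  intro hxR
  have : Fact p.Prime := ⟨hp⟩
  have hmem : ∀ g : GL ι F, g ∈ R ↔ x * g * x⁻¹ ∈ R := fun g => Subgroup.mem_normalizer_iff.mp hxR g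
  -- the automorphism
  have hfin : Finite R := Nat.finite_of_card_ne_zero (by omega)
  let φ : R ≃* R :=
    { toFun := fun r => ⟨x * r * x⁻¹, (hmem r).mp r.2⟩
      invFun := fun r => ⟨x⁻¹ * r * x, (hmem _).mpr (by
        have : x * (x⁻¹ * (r : GL ι F) * x) * x⁻¹ = r := by group
        rw [this]; exact r.2)⟩
      left_inv := fun r => Subtype.ext (by simp only []; group)
      right_inv := fun r => Subtype.ext (by simp only []; group)
      map_mul' := fun r s => Subtype.ext (by simp only [Subgroup.coe_mul]; group) }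
  have hφ : ∀ r : R, ((φ r : R) : GL ι F) = x * r * x⁻¹ := fun r => rfl
  have hφn : ∀ n : ℕ, ∀ r : R, (((φ : R → R)^[n] r : R) : GL ι F) = x ^ n * r * (x ^ n)⁻¹ := by
    intro n
    induction n with
    | zero => intro r; simp
    | succ n ih =>
      intro r
      rw [Function.iterate_succ_apply', hφ, ih, pow_succ' x n]
      group
  have hφp : (φ : R → R)^[p] = id := by
    funext r
    apply Subtype.ext
    rw [hφn, hx.pow]
    simp
  -- fixed points
  let C : Subgroup R :=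
    { carrier := {r | φ r = r}
      mul_mem' := by
        intro a b ha hb
        change φ (a * b) = a * b
        rw [map_mul, show φ a = a from ha, show φ b = b from hb]
      one_mem' := map_one φ
      inv_mem' := by
        intro a ha
        change φ a⁻¹ = a⁻¹
        rw [map_inv, show φ a = a from ha] }
  have : Fintype R := Fintype.ofFinite R
  have hmod : Nat.card R ≡ Nat.card C [MOD p] := by
    have h := @Equiv.Perm.card_fixedPoints_modEq R _ _ (φ : R → R) p 1 _ (by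
      rw [pow_one]
      exact (hom_coe_pow (fun g : Function.End R ↦ g) rfl (fun g h ↦ rfl) (φ : R → R) p).trans hφp)
    rw [Nat.card_eq_fintype_card, Nat.card_eq_fintype_card]
    have e : Fintype.card C = Fintype.card (Function.fixedPoints (φ : R → R)) :=
      Fintype.card_congr (Equiv.subtypeEquivRight (fun r => Iff.rfl))
    rw [e]
    exact h
  have hdvd : Nat.card C ∣ 32 := by rw [← hc]; exact C.card_subgroup_dvd_card
  have hZC : Subgroup.center R ≤ C := by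
    obtain ⟨y, hy1, hy⟩ := (Nat.card_eq_two_iff' (1 : Subgroup.center R)).mp hz
    intro z hzz
    change φ z = z
    by_cases hz1 : z = 1
    · rw [hz1, map_one]
    have hφz : φ z ∈ Subgroup.center R := by
      rw [Subgroup.mem_center_iff] at hzz ⊢
      intro g
      have h := congrArg φ (hzz (φ.symm g))
      rw [map_mul, map_mul, MulEquiv.apply_symm_apply] at h
      exact h
    have h1 := hy ⟨z, hzz⟩ (fun h => hz1 (congrArg Subtype.val h))
    have h2 := hy ⟨φ z, hφz⟩ (fun h => hz1 ((map_eq_one_iff φ φ.injective).mp (congrArg Subtype.val h)))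
    exact congrArg Subtype.val (h2.trans h1.symm)
  have hC2 : 2 ≤ Nat.card C := by
    rw [← hz]
    exact Nat.card_le_card_of_injective _ (Subgroup.inclusion_injective hZC)
  have hCtop : Nat.card C = 32 := by
    rw [hc] at hmod
    obtain ⟨m, hm, hCm⟩ := (Nat.dvd_prime_pow Nat.prime_two).mp (show Nat.card C ∣ 2 ^ 5 from hdvd)
    rw [hCm] at hmod hC2 ⊢
    have hpd : p ∣ 32 - 2 ^ m := (Nat.modEq_iff_dvd' (by
      calc 2 ^ m ≤ 2 ^ 5 := Nat.pow_le_pow_right (by norm_num) hm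
        _ = 32 := by norm_num)).mp hmod.symm
    interval_cases m
    · omega
    · exfalso
      have : p ∣ 2 * (3 * 5) := hpd
      rcases (hp.dvd_mul).mp this with h | h
      · have := Nat.le_of_dvd (by norm_num) h; omega
      · rcases (hp.dvd_mul).mp h with h | h
        · have := Nat.le_of_dvd (by norm_num) h; omega
        · have := Nat.le_of_dvd (by norm_num) h; omega
    · exfalso
      have : p ∣ 4 * 7 := hpd
      rcases (hp.dvd_mul).mp this with h | h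
      · have := Nat.le_of_dvd (by norm_num) h; omega
      · have := Nat.le_of_dvd (by norm_num) h; omega
    · exfalso
      have : p ∣ 4 * 6 := hpd
      rcases (hp.dvd_mul).mp this with h | h
      · have := Nat.le_of_dvd (by norm_num) h; omega
      · have := Nat.le_of_dvd (by norm_num) h; omega
    · exfalso
      have : p ∣ 4 * 4 := hpd
      rcases (hp.dvd_mul).mp this with h | h
      · have := Nat.le_of_dvd (by norm_num) h; omega
      · have := Nat.le_of_dvd (by norm_num) h; omega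
    · norm_num
  have hCt : C = ⊤ := Subgroup.eq_top_of_card_eq _ (by rw [hCtop, hc])
  obtain ⟨c, hcx⟩ := hR.2 (x : Matrix ι ι F) (by
    rintro _ ⟨r, hr, rfl⟩
    have h1 : (⟨r, hr⟩ : R) ∈ C := by rw [hCt]; trivial
    have h2 := congrArg Subtype.val (show φ ⟨r, hr⟩ = ⟨r, hr⟩ from h1)
    rw [hφ] at h2
    have h3 : x * r = r * x := mul_inv_eq_iff_eq_mul.mp h2
    rw [← Units.val_mul, ← Units.val_mul, h3])
  have h4 := hx.nil
  have h3 := hx.ne
  have : Nonempty ι := Fintype.card_pos_iff.mp (by omega)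
  have e : c • (1 : Matrix ι ι F) - 1 = (c - 1) • (1 : Matrix ι ι F) := by rw [sub_smul, one_smul]
  rw [hcx, e, smul_pow, one_pow] at h3 h4
  rw [smul_eq_zero, or_iff_left one_ne_zero] at h4
  have h5 := pow_eq_zero_iff (by norm_num) |>.mp h4
  apply h3
  rw [h5, zero_pow (by norm_num), zero_smul]

/-- no subfield case over the prime field -/
theorem no_subfield_pow {p : ℕ} (hp : p.Prime) [Fintype F] (hF : Fintype.card F = p) (F₀ : Subfield F) {r : ℕ}
    (hr : r.Prime) : Fintype.card F ≠ Nat.card F₀ ^ r := by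
  intro h
  rw [hF] at h
  have := hp
  rw [h] at this
  exact (Nat.Prime.not_prime_pow hr.two_le) this

end ext

/-- `V` is not totally singular -/
theorem not_totallySingular_top {F : Type u} [Field F] : ¬ IsTotallySingularFor (sympForm 2 F) ⊤ := by
  intro h
  have := h (Pi.single (Sum.inr 0) 1) trivial (Pi.single (Sum.inl 0) 1) trivial
  simp [sympForm, Matrix.J] at this

end Cfsg.Agent.H758.GT

private theorem dce_6eaa9eb7fbce : _root_.True := by
  try have : _root_.True := by simp only [_root_.Cfsg.sympForm.eq_1]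
  exact _root_.True.intro
end

-- part: H758/GT/Res
section
set_option linter.all false
open scoped Cfsg.Agent.FastGrp

/-!
# S5211, StU2P: every maximal subgroup of `Sp₄(p)` above an irreducible group with a regular unipotent element is in the
residual class
-/

set_option autoImplicit false

namespace Cfsg.Agent.H758.GT

open scoped MatrixGroups Matrix
open Cfsg Cfsg.Geo

universe u

/-- **(A)** a proper subgroup of `Sp₄(p)`, `p ≥ 11`, irreducible and with a regular unipotent element is contained in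
a maximal subgroup, which is in the residual class -/
theorem residual {F : Type u} [Field F] [Fintype F] {p : ℕ} [Fact p.Prime] (hp : 11 ≤ p)
    (hF : Fintype.card F = p) (L : Subgroup (GL (Fin 2 ⊕ Fin 2) F)) (hL : L ≤ Cfsg.spGL 2 F)
    (hne : L ≠ Cfsg.spGL 2 F) (x : GL (Fin 2 ⊕ Fin 2) F) (hx : x ∈ L) (hr : RegUni p x)
    (hirr : ∀ W : Submodule F (Fin 2 ⊕ Fin 2 → F),
      (∀ g ∈ L, ∀ v ∈ W, (g : Matrix (Fin 2 ⊕ Fin 2) (Fin 2 ⊕ Fin 2) F) *ᵥ v ∈ W) → W = ⊥ ∨ W = ⊤) :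
    ∃ H, Cfsg.Geo.IsMaximalIn (Cfsg.spGL 2 F) H ∧ L ≤ H ∧ Cfsg.Geo.InSymplecticResidualClass H := by
  classical
  have hpp : p.Prime := Fact.out
  have hfin : Finite (GL (Fin 2 ⊕ Fin 2) F) := inferInstance
  -- a maximal subgroup
  obtain ⟨H, hH, hLH⟩ : ∃ H, Cfsg.Geo.IsMaximalIn (Cfsg.spGL 2 F) H ∧ L ≤ H := by
    let S : Set (Subgroup (GL (Fin 2 ⊕ Fin 2) F)) := {M | L ≤ M ∧ M < Cfsg.spGL 2 F}
    have hS : S.Finite := Set.toFinite S
    have hSne : S.Nonempty := ⟨L, le_rfl, lt_of_le_of_ne hL hne⟩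
    obtain ⟨M, hM⟩ := hS.exists_maximal hSne
    refine ⟨M, ⟨hM.1.2, fun M' h1 h2 => ?_⟩, hM.1.1⟩
    by_cases h3 : M' = Cfsg.spGL 2 F
    · exact Or.inr h3
    · left
      exact le_antisymm (hM.2 ⟨hM.1.1.trans h1, lt_of_le_of_ne h2 h3⟩ h1) h1
  refine ⟨H, hH, hLH, ?_⟩
  have hodd : Odd (Fintype.card F) := by rw [hF]; exact hpp.odd_of_ne_two (by omega)
  have hι : Fintype.card (Fin 2 ⊕ Fin 2) = 4 := rfl
  rcases Cfsg.Agent.S5787.result hodd H hH with ⟨W, h0, hts, rfl⟩ | ⟨D, hD, rfl⟩ | ⟨_, D, hD, _, rfl⟩ |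
    ⟨K, hK, _, _, rfl⟩ | ⟨_, K, hK, _, _, rfl⟩ | ⟨F₀, r, P, ζ, hrp, hcard, _⟩ |
    ⟨q, R, _, _, _, hR, _, hc, hz, _, rfl⟩ | h
  · exfalso
    rcases hirr W (fun g hg v hv => ((hLH hg).1 v).mp hv) with h | h
    · exact h0 h
    · exact not_totallySingular_top (h ▸ hts)
  · exact absurd (hLH hx).1 (not_mem_decompositionStabilizer hι hpp (by omega) hr hD.decomp)
  · exact absurd (hLH hx).1 (not_mem_decompositionStabilizer hι hpp (by omega) hr hD)
  · exact absurd (hLH hx).1 (not_mem_subalgebraNormalizer hι hpp (by omega) hF hr hK)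
  · exact absurd (hLH hx).1 (not_mem_subalgebraNormalizer hι hpp (by omega) hF hr hK)
  · exact absurd hcard (no_subfield_pow hpp hF F₀ hrp)
  · exact absurd (hLH hx).1 (not_mem_subgroupNormalizer hι hpp hp hr hR hc hz)
  · exact h

/-- **(A)** in the form of `H103/GT/UTwoP.lean` -/
theorem stRes : Cfsg.Agent.H103.GT.StRes.{u} := by
  intro F _ _ p _ hp hF L hL hne x hx h1 h2 h3 hirr
  exact residual hp hF L hL hne x hx ⟨h1, h2, h3⟩ hirr

end Cfsg.Agent.H758.GT
end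
end
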